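import Groth.Agent.NagataFG.Main
import Mathlib.RingTheory.FiniteType

/-! The main theorem. -/

set_option autoImplicit false

universe u

open scoped Polynomial

namespace NagataFG

theorem isNagata_polynomial (R : Type u) [CommRing R] (hR : CAlg.IsNagata R) : CAlg.IsNagata R[X] := by
  have := hR.1
  refine ⟨inferInstance, fun q _ => ?_⟩
  let p : Ideal R := RingHom.ker (algebraMap R (R[X] ⧸ q))
  have : p.IsPrime := RingHom.ker_isPrime _
  let _ : Algebra (R ⧸ p) (R[X] ⧸ q) := (RingHom.kerLift (algebraMap R (R[X] ⧸ q))).toAlgebra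
  refine isN2_of_monogenic (R := R ⧸ p) (S := R[X] ⧸ q) (NormalLib.isNagata_quotient hR p)
    (RingHom.kerLift_injective _) (Ideal.Quotient.mk q Polynomial.X) (eq_top_iff.2 fun z hz => ?_)
  clear hz
  obtain ⟨f, rfl⟩ := Ideal.Quotient.mk_surjective z
  induction f using Polynomial.induction_on' with
  | add a b ha hb => rw [map_add]; exact Subalgebra.add_mem _ ha hb
  | monomial n a =>
    rw [← Polynomial.C_mul_X_pow_eq_monomial, map_mul, map_pow]
    refine Subalgebra.mul_mem _ ?_ (Subalgebra.pow_mem _ (Algebra.subset_adjoin (Set.mem_singleton _)) n)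
    rw [show Ideal.Quotient.mk q (Polynomial.C a) = algebraMap (R ⧸ p) (R[X] ⧸ q) (Ideal.Quotient.mk p a) from
      (RingHom.kerLift_mk (algebraMap R (R[X] ⧸ q)) a).symm]
    exact Subalgebra.algebraMap_mem _ _

theorem isNagata_mvPolynomial (R : Type u) [CommRing R] (hR : CAlg.IsNagata R) :
    ∀ n : ℕ, CAlg.IsNagata (MvPolynomial (Fin n) R) := by
  intro n
  induction n with
  | zero =>
    exact isNagata_of_surjective (MvPolynomial.isEmptyAlgEquiv R (Fin 0)).symm.toRingEquiv.toRingHom
      (MvPolynomial.isEmptyAlgEquiv R (Fin 0)).symm.surjective hR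
  | succ n ih =>
    exact isNagata_of_surjective (MvPolynomial.finSuccEquiv R n).symm.toRingEquiv.toRingHom
      (MvPolynomial.finSuccEquiv R n).symm.surjective (isNagata_polynomial _ ih)

/-- Algebras of finite type over Nagata rings are Nagata. -/
theorem isNagata_of_finiteType (R : Type u) [CommRing R] (hR : CAlg.IsNagata R) (S : Type u) [CommRing S]
    [Algebra R S] [Algebra.FiniteType R S] : CAlg.IsNagata S := by
  obtain ⟨n, f, hf⟩ := Algebra.FiniteType.iff_quotient_mvPolynomial''.1 (inferInstance : Algebra.FiniteType R S)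
  exact isNagata_of_surjective f.toRingHom hf (isNagata_mvPolynomial R hR n)

end NagataFG
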