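import Groth.Agent.NagataFG.FiniteType
import Mathlib.RingTheory.EssentialFiniteness
import Mathlib.RingTheory.Localization.Finiteness

/-! Universally Japanese rings. -/

set_option autoImplicit false

universe u

open scoped nonZeroDivisors

namespace NagataFG

/-- If every finite extension inside a finite field extension is N-1, the ring is N-2. -/
theorem isN2_of_forall_finite_isN1 {S : Type u} [CommRing S] [IsDomain S]
    (h : ∀ (T : Type u) [CommRing T] [IsDomain T] [Algebra S T], Module.Finite S T →
      Function.Injective (algebraMap S T) → CAlg.IsN1 T) : CAlg.IsN2 S := by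
  classical
  intro L _ _ _ _ hL
  let K := FractionRing S
  obtain ⟨s, hs⟩ := Module.Finite.fg_top (R := K) (M := L)
  have hint : ∀ y : L, ∃ d : S, d ≠ 0 ∧ IsIntegral S (d • y) := fun y => by
    obtain ⟨d, hd⟩ := IsIntegral.exists_multiple_integral_of_isLocalization S⁰ y
      (Algebra.IsIntegral.isIntegral (R := K) y)
    exact ⟨d, nonZeroDivisors.coe_ne_zero d, hd⟩
  choose d hd0 hd using hint
  let T := Algebra.adjoin S ((s.image fun y => d y • y : Finset L) : Set L)
  have : Module.Finite S T := Module.Finite.iff_fg.2 (fg_adjoin_of_finite (Finset.finite_toSet _) fun z hz => by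
    obtain ⟨y, -, rfl⟩ := Finset.mem_image.1 (Finset.mem_coe.1 hz); exact hd y)
  have hSL : Function.Injective (algebraMap S L) := by
    rw [IsScalarTower.algebraMap_eq S K L]; exact (algebraMap K L).injective.comp (IsFractionRing.injective S K)
  have hinj : Function.Injective (algebraMap S T) := fun a b hab => hSL (congrArg Subtype.val hab)
  have : IsFractionRing T L := IsFractionRing.of_field T L fun z => by
    have key : ∀ z ∈ Submodule.span K (s : Set L), ∃ t : T, ∃ e : S, e ≠ 0 ∧ algebraMap S L e * z = t := by
      intro z hz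
      induction hz using Submodule.span_induction with
      | mem y hy =>
        exact ⟨⟨d y • y, Algebra.subset_adjoin (Finset.mem_coe.2 (Finset.mem_image_of_mem _ hy))⟩, d y, hd0 y,
          (Algebra.smul_def _ _).symm⟩
      | zero => exact ⟨0, 1, one_ne_zero, by simp⟩
      | add a b _ _ ha hb =>
        obtain ⟨t, e, he, hte⟩ := ha
        obtain ⟨t', e', he', hte'⟩ := hb
        refine ⟨e' • t + e • t', e * e', mul_ne_zero he he', ?_⟩
        rw [AddMemClass.coe_add, SetLike.val_smul, SetLike.val_smul, ← hte, ← hte', Algebra.smul_def,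
          Algebra.smul_def, map_mul]
        ring
      | smul k a _ ha =>
        obtain ⟨t, e, he, hte⟩ := ha
        obtain ⟨a', b', hb', rfl⟩ := IsFractionRing.div_surjective (A := S) k
        refine ⟨a' • t, e * b', mul_ne_zero he (nonZeroDivisors.ne_zero hb'), ?_⟩
        rw [SetLike.val_smul, ← hte, Algebra.smul_def, Algebra.smul_def, map_div₀, map_mul,
          ← IsScalarTower.algebraMap_apply, ← IsScalarTower.algebraMap_apply]
        have := (map_ne_zero_iff _ hSL).2 (nonZeroDivisors.ne_zero hb')
        field_simp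
    obtain ⟨t, e, he, hte⟩ := key z (hs.symm ▸ Submodule.mem_top)
    refine ⟨t, algebraMap S T e, ?_⟩
    show z = (t : L) / algebraMap S L e
    rw [← hte, mul_div_cancel_left₀ _ ((map_ne_zero_iff _ hSL).2 he)]
  have hN1 : CAlg.IsN1 T := h T inferInstance hinj
  have : Module.Finite T (integralClosure T (FractionRing T)) := hN1
  have : Module.Finite T (integralClosure T L) :=
    NormalLib.finite_integralClosure_of_algEquiv (IsLocalization.algEquiv T⁰ (FractionRing T) L)
  have : Module.Finite S (integralClosure T L) := Module.Finite.trans T _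
  have : Algebra.IsIntegral S T := Algebra.IsIntegral.of_finite S T
  let g : integralClosure T L →ₗ[S] integralClosure S L :=
    { toFun := fun z => ⟨z, isIntegral_trans (z : L) z.2⟩
      map_add' := fun _ _ => rfl
      map_smul' := fun a z => Subtype.ext (by simp) }
  exact Module.Finite.of_surjective g fun z => ⟨⟨z, z.2.tower_top⟩, rfl⟩

theorem isUniversallyJapanese_of_forall_isN1 (R : Type u) [CommRing R]
    (h : ∀ (S : Type u) [CommRing S] [IsDomain S] [Algebra R S], Algebra.FiniteType R S → CAlg.IsN1 S) :
    CAlg.IsUniversallyJapanese R := by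
  intro S _ _ _ hS
  refine isN2_of_forall_finite_isN1 fun T _ _ _ _ _ => ?_
  let _ : Algebra R T := ((algebraMap S T).comp (algebraMap R S)).toAlgebra
  have : IsScalarTower R S T := IsScalarTower.of_algebraMap_eq' rfl
  exact h T (Algebra.FiniteType.trans hS inferInstance)

theorem isUniversallyJapanese_of_essFiniteType (R : Type u) [CommRing R] (hR : CAlg.IsUniversallyJapanese R)
    (T : Type u) [CommRing T] [Algebra R T] [Algebra.EssFiniteType R T] : CAlg.IsUniversallyJapanese T := by
  intro D _ _ _ hD
  let _ : Algebra R D := ((algebraMap T D).comp (algebraMap R T)).toAlgebra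
  have : IsScalarTower R T D := IsScalarTower.of_algebraMap_eq' rfl
  have : Algebra.EssFiniteType R D := Algebra.EssFiniteType.comp R T D
  exact NormalLib.isN2_of_isLocalization (Algebra.EssFiniteType.submonoid R D) D
    (hR (Algebra.EssFiniteType.subalgebra R D) inferInstance)

theorem isUniversallyJapanese_of_cover (R : Type u) [CommRing R] {ι : Type u} [Finite ι] (f : ι → R)
    (hf : Ideal.span (Set.range f) = ⊤) (h : ∀ i, CAlg.IsUniversallyJapanese (Localization.Away (f i))) :
    CAlg.IsUniversallyJapanese R := by
  classical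
  intro S _ _ _ hS
  let κ := {i : ι // algebraMap R S (f i) ≠ 0}
  let g : κ → S := fun i => algebraMap R S (f i.1)
  have hg : Ideal.span (Set.range g) = ⊤ := by
    rw [eq_top_iff]
    calc (⊤ : Ideal S) = (Ideal.span (Set.range f)).map (algebraMap R S) := by rw [hf, Ideal.map_top]
      _ ≤ Ideal.span (Set.range g) := by
        rw [Ideal.map_span, Ideal.span_le]
        rintro _ ⟨_, ⟨i, rfl⟩, rfl⟩
        rcases eq_or_ne (algebraMap R S (f i)) 0 with h0 | h0
        · rw [h0]; exact zero_mem _
        · exact Ideal.subset_span ⟨⟨i, h0⟩, rfl⟩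
  have hdom : ∀ i : κ, IsDomain (Localization.Away (g i)) := fun i =>
    IsLocalization.isDomain_localization (powers_le_nonZeroDivisors_of_noZeroDivisors i.2)
  refine NormalLib.isN2_of_span_eq_top g hg (fun i => Localization.Away (g i)) fun i => ?_
  let φ : Localization.Away (f i.1) →+* Localization.Away (g i) :=
    IsLocalization.map (M := Submonoid.powers (f i.1)) (T := Submonoid.powers (g i)) _ (algebraMap R S) (by
      rintro _ ⟨n, rfl⟩
      exact ⟨n, (map_pow _ _ _).symm⟩)
  let _ : Algebra (Localization.Away (f i.1)) (Localization.Away (g i)) := φ.toAlgebra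
  have : IsScalarTower R (Localization.Away (f i.1)) (Localization.Away (g i)) :=
    IsScalarTower.of_algebraMap_eq fun r => by
      show _ = φ (algebraMap R (Localization.Away (f i.1)) r)
      rw [IsLocalization.map_eq, ← IsScalarTower.algebraMap_apply]
  refine h i.1 (Localization.Away (g i)) ?_
  have : Algebra.FiniteType S (Localization.Away (g i)) := IsLocalization.finiteType_of_monoid_fg (Submonoid.powers (g i)) _
  have : Algebra.FiniteType R (Localization.Away (g i)) := Algebra.FiniteType.trans hS this
  exact Algebra.FiniteType.of_restrictScalars_finiteType R _ _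

theorem isNagata_of_cover (R : Type u) [CommRing R] {ι : Type u} [Finite ι] (f : ι → R)
    (hf : Ideal.span (Set.range f) = ⊤) (h : ∀ i, CAlg.IsNagata (Localization.Away (f i))) :
    CAlg.IsNagata R := by
  classical
  have hN : IsNoetherianRing R := ⟨fun I => Ideal.fg_of_localizationSpan (Set.range f) hf fun ⟨_, i, hi⟩ => by
    subst hi
    have := (h i).1
    exact IsNoetherian.noetherian _⟩
  refine ⟨hN, fun p hp => ?_⟩
  let κ := {i : ι // f i ∉ p}
  let g : κ → R ⧸ p := fun i => Ideal.Quotient.mk p (f i.1)
  have hne : ∀ i : κ, g i ≠ 0 := fun i h0 => i.2 (Ideal.Quotient.eq_zero_iff_mem.1 h0)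
  have hg : Ideal.span (Set.range g) = ⊤ := by
    rw [eq_top_iff]
    calc (⊤ : Ideal (R ⧸ p)) = (Ideal.span (Set.range f)).map (Ideal.Quotient.mk p) := by rw [hf, Ideal.map_top]
      _ ≤ Ideal.span (Set.range g) := by
        rw [Ideal.map_span, Ideal.span_le]
        rintro _ ⟨_, ⟨i, rfl⟩, rfl⟩
        by_cases h0 : f i ∈ p
        · rw [Ideal.Quotient.eq_zero_iff_mem.2 h0]; exact zero_mem _
        · exact Ideal.subset_span ⟨⟨i, h0⟩, rfl⟩
  have hdom : ∀ i : κ, IsDomain (Localization.Away (g i)) := fun i =>
    IsLocalization.isDomain_localization (powers_le_nonZeroDivisors_of_noZeroDivisors (hne i))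
  refine NormalLib.isN2_of_span_eq_top g hg (fun i => Localization.Away (g i)) fun i => ?_
  let φ : Localization.Away (f i.1) →+* Localization.Away (g i) :=
    IsLocalization.map (M := Submonoid.powers (f i.1)) (T := Submonoid.powers (g i)) _ (Ideal.Quotient.mk p) (by
      rintro _ ⟨n, rfl⟩
      exact ⟨n, (map_pow _ _ _).symm⟩)
  have hsurj : Function.Surjective φ := fun z => by
    obtain ⟨y, ⟨_, n, rfl⟩, rfl⟩ := IsLocalization.exists_mk'_eq (Submonoid.powers (g i)) z
    obtain ⟨y, rfl⟩ := Ideal.Quotient.mk_surjective y
    refine ⟨IsLocalization.mk' _ y (⟨f i.1 ^ n, n, rfl⟩ : Submonoid.powers (f i.1)), ?_⟩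
    rw [IsLocalization.map_mk']
    rfl
  exact NormalLib.isN2_of_ringEquiv (RingEquiv.quotientBot _) ((isNagata_of_surjective φ hsurj (h i.1)).2 ⊥)

end NagataFG
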