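import Mathlib.AlgebraicGeometry.IdealSheaf.Subscheme
import Mathlib.AlgebraicGeometry.Properties
import Mathlib.AlgebraicGeometry.Morphisms.ClosedImmersion
import Mathlib.AlgebraicGeometry.AffineScheme

/-! The integral closed subscheme through a point. -/

set_option autoImplicit false

universe u

open AlgebraicGeometry CategoryTheory TopologicalSpace

namespace NagataFG

variable {X : Scheme.{u}} (x : X)

/-- The reduced closed subscheme on the closure of a point. -/
noncomputable def closureIdeal : X.IdealSheafData :=
  Scheme.IdealSheafData.vanishingIdeal ⟨closure {x}, isClosed_closure⟩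

theorem closureIdeal_ideal (U : X.affineOpens) (hx : x ∈ U.1) :
    (closureIdeal x).ideal U = (U.2.primeIdealOf ⟨x, hx⟩).asIdeal := by
  rw [closureIdeal, Scheme.IdealSheafData.vanishingIdeal_ideal]
  show PrimeSpectrum.vanishingIdeal (U.2.fromSpec ⁻¹' closure {x}) = _
  have h1 : U.2.fromSpec ⁻¹' {x} = {U.2.primeIdealOf ⟨x, hx⟩} := by
    ext q
    simp only [Set.mem_preimage, Set.mem_singleton_iff]
    constructor
    · intro hq
      exact U.2.fromSpec.isOpenEmbedding.injective (hq.trans (U.2.fromSpec_primeIdealOf ⟨x, hx⟩).symm)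
    · rintro rfl
      exact U.2.fromSpec_primeIdealOf ⟨x, hx⟩
  have key : U.2.fromSpec ⁻¹' closure {x} = closure {U.2.primeIdealOf ⟨x, hx⟩} :=
    (U.2.fromSpec.isOpenEmbedding.isOpenMap.preimage_closure_eq_closure_preimage U.2.fromSpec.continuous {x}).trans
      (congrArg closure h1)
  exact (congrArg PrimeSpectrum.vanishingIdeal key).trans
    ((PrimeSpectrum.vanishingIdeal_closure _).trans (PrimeSpectrum.vanishingIdeal_singleton _))

theorem isIntegral_closure : IsIntegral (closureIdeal x).subscheme := by
  have hred : AlgebraicGeometry.IsReduced (closureIdeal x).subscheme := by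
    have : ∀ i, AlgebraicGeometry.IsReduced ((closureIdeal x).subschemeCover.openCover.X i) := fun i => by
      have : _root_.IsReduced (Γ(X, (i : X.affineOpens).1) ⧸ (closureIdeal x).ideal i) := by
        rw [← Ideal.isRadical_iff_quotient_reduced, closureIdeal, Scheme.IdealSheafData.vanishingIdeal_ideal]
        exact PrimeSpectrum.isRadical_vanishingIdeal _
      show AlgebraicGeometry.IsReduced (Spec (.of (Γ(X, (i : X.affineOpens).1) ⧸ (closureIdeal x).ideal i)))
      infer_instance
    exact AlgebraicGeometry.IsReduced.of_openCover _ (closureIdeal x).subschemeCover.openCover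
  have hrange : Set.range (closureIdeal x).subschemeι = closure {x} := by
    rw [Scheme.IdealSheafData.range_subschemeι, closureIdeal, Scheme.IdealSheafData.coe_support_vanishingIdeal]
    rfl
  have hirr : IrreducibleSpace (closureIdeal x).subscheme := by
    have hemb := IsClosedImmersion.base_closed (f := (closureIdeal x).subschemeι)
    obtain ⟨z, hz⟩ : x ∈ Set.range (closureIdeal x).subschemeι := hrange ▸ subset_closure rfl
    have : Nonempty (closureIdeal x).subscheme := ⟨z⟩
    refine @IrreducibleSpace.mk _ _ ⟨fun u v hu hv hu' hv' => ?_⟩ this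
    obtain ⟨u₀, hu₀, rfl⟩ := hemb.isInducing.isOpen_iff.1 hu
    obtain ⟨v₀, hv₀, rfl⟩ := hemb.isInducing.isOpen_iff.1 hv
    obtain ⟨a, -, ha⟩ := hu'
    obtain ⟨b, -, hb⟩ := hv'
    have hgen : ∀ w : Set X, IsOpen w → ∀ a, (closureIdeal x).subschemeι a ∈ w → x ∈ w := fun w hw a ha => by
      obtain ⟨y, hyw, rfl⟩ := mem_closure_iff.1 (hrange ▸ Set.mem_range_self a) w hw ha
      exact hyw
    refine ⟨z, trivial, ?_, ?_⟩
    · show _ ∈ u₀; rw [hz]; exact hgen u₀ hu₀ a ha
    · show _ ∈ v₀; rw [hz]; exact hgen v₀ hv₀ b hb
  exact isIntegral_of_irreducibleSpace_of_isReduced _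

theorem mem_range : x ∈ Set.range (closureIdeal x).subschemeι := by
  rw [Scheme.IdealSheafData.range_subschemeι, closureIdeal, Scheme.IdealSheafData.coe_support_vanishingIdeal]
  exact subset_closure (Set.mem_singleton x)

end NagataFG
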