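import Groth.Agent.NormalLib.Transfer
import Mathlib.RingTheory.Polynomial.IsIntegral
import Mathlib.Algebra.Polynomial.Expand
import Mathlib.FieldTheory.PurelyInseparable.Exponent
import Mathlib.FieldTheory.IsAlgClosed.AlgebraicClosure

/-! Polynomial rings over N-1 and N-2 domains. -/

set_option autoImplicit false

universe u

open scoped nonZeroDivisors Polynomial

namespace NagataFG

theorem finite_integralClosure_of_normal {A S L : Type u} [CommRing A] [IsNoetherianRing A] [CommRing S] [IsDomain S]
    [IsIntegrallyClosed S] [Algebra A S] [Module.Finite A S] [Field L] [Algebra A L]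
    (φ : L →ₐ[A] FractionRing S) : Module.Finite A (integralClosure A L) := by
  let F := FractionRing S
  let g : S →ₗ[A] integralClosure A F :=
    { toFun := fun s => ⟨algebraMap S F s, ((Algebra.IsIntegral.of_finite A S).isIntegral s).algebraMap⟩
      map_add' := fun a b => Subtype.ext (map_add _ a b)
      map_smul' := fun r a => Subtype.ext (by
        show algebraMap S F (r • a) = r • algebraMap S F a
        rw [Algebra.smul_def, Algebra.smul_def, map_mul, ← IsScalarTower.algebraMap_apply]) }
  have : Module.Finite A (integralClosure A F) := Module.Finite.of_surjective g fun y => by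
    obtain ⟨s, hs⟩ := (isIntegrallyClosed_iff F).1 (inferInstance : IsIntegrallyClosed S)
      (show IsIntegral S (y : F) from y.2.tower_top)
    exact ⟨s, Subtype.ext hs⟩
  exact NormalLib.finite_integralClosure_of_injective φ φ.toRingHom.injective

/-- The map `R[X] → R'[T]` sending `X` to `T ^ q`. -/
noncomputable def expandHom (R R' : Type u) [CommRing R] [CommRing R'] [Algebra R R'] (q : ℕ) : R[X] →+* R'[X] :=
  (Polynomial.expand R' q).toRingHom.comp (Polynomial.mapRingHom (algebraMap R R'))

theorem expandHom_finite {R R' : Type u} [CommRing R] [CommRing R'] [Algebra R R'] [Module.Finite R R'] {q : ℕ}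
    (hq : 0 < q) : (expandHom R R' q).Finite := by
  classical
  let _ : Algebra R[X] R'[X] := (expandHom R R' q).toAlgebra
  show Module.Finite R[X] R'[X]
  obtain ⟨G, hG⟩ := (inferInstance : Module.Finite R R').fg_top
  let gens : Finset R'[X] := insert Polynomial.X (G.image Polynomial.C)
  have hC : ∀ r : R, algebraMap R[X] R'[X] (Polynomial.C r) = Polynomial.C (algebraMap R R' r) := fun r => by
    show Polynomial.expand R' q ((Polynomial.C r).map (algebraMap R R')) = _
    rw [Polynomial.map_C, Polynomial.expand_C]
  have hXq : algebraMap R[X] R'[X] Polynomial.X = Polynomial.X ^ q := by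
    show Polynomial.expand R' q ((Polynomial.X : R[X]).map (algebraMap R R')) = _
    rw [Polynomial.map_X, Polynomial.expand_X]
  have htop : Algebra.adjoin R[X] (gens : Set R'[X]) = ⊤ := by
    refine eq_top_iff.2 fun p hp => ?_
    clear hp
    induction p using Polynomial.induction_on' with
    | add a b ha hb => exact Subalgebra.add_mem _ ha hb
    | monomial n a =>
      rw [← Polynomial.C_mul_X_pow_eq_monomial]
      refine Subalgebra.mul_mem _ ?_ (Subalgebra.pow_mem _ (Algebra.subset_adjoin (by simp [gens])) n)
      have ha : a ∈ Submodule.span R (G : Set R') := hG.symm ▸ Submodule.mem_top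
      induction ha using Submodule.span_induction with
      | mem y hy =>
        exact Algebra.subset_adjoin (Finset.mem_coe.2 (Finset.mem_insert_of_mem (Finset.mem_image_of_mem _ hy)))
      | zero => rw [map_zero]; exact Subalgebra.zero_mem _
      | add y z _ _ hy hz => rw [map_add]; exact Subalgebra.add_mem _ hy hz
      | smul r y _ hy => rw [Algebra.smul_def, map_mul, ← hC]; exact Subalgebra.mul_mem _ (Subalgebra.algebraMap_mem _ _) hy
  refine ⟨?_⟩
  rw [← Algebra.top_toSubmodule, ← htop]
  refine fg_adjoin_of_finite (Finset.finite_toSet _) fun z hz => ?_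
  rcases Finset.mem_insert.1 (Finset.mem_coe.1 hz) with rfl | hz
  · exact IsIntegral.of_pow hq (by rw [← hXq]; exact isIntegral_algebraMap)
  · obtain ⟨y, -, rfl⟩ := Finset.mem_image.1 hz
    obtain ⟨P, hP, hP'⟩ := (Algebra.IsIntegral.of_finite R R').isIntegral y
    refine ⟨P.map Polynomial.C, hP.map _, ?_⟩
    rw [Polynomial.eval₂_map, show (algebraMap R[X] R'[X]).comp Polynomial.C = Polynomial.C.comp (algebraMap R R') from
      RingHom.ext hC, ← Polynomial.hom_eval₂, hP', map_zero]

theorem expandHom_injective {R R' : Type u} [CommRing R] [CommRing R'] [Algebra R R']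
    (hinj : Function.Injective (algebraMap R R')) {q : ℕ} (hq : 0 < q) :
    Function.Injective (expandHom R R' q) :=
  (Polynomial.expand_injective hq).comp (Polynomial.map_injective _ hinj)

theorem isN1_polynomial (R : Type u) [CommRing R] [IsDomain R] [IsNoetherianRing R] (h : CAlg.IsN1 R) :
    CAlg.IsN1 R[X] := by
  let K := FractionRing R
  let R' := integralClosure R K
  have : Module.Finite R R' := h
  have hinj : Function.Injective (algebraMap R R') := fun a b hab =>
    IsFractionRing.injective R K (congrArg Subtype.val hab)
  have : IsIntegrallyClosed R' := integralClosure.isIntegrallyClosedOfFiniteExtension K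
  let _ : Algebra R[X] R'[X] := (expandHom R R' 1).toAlgebra
  have : Module.Finite R[X] R'[X] := expandHom_finite one_pos
  have hAF : Function.Injective (algebraMap R[X] (FractionRing R'[X])) := by
    rw [IsScalarTower.algebraMap_eq R[X] R'[X] (FractionRing R'[X])]
    exact (IsFractionRing.injective R'[X] _).comp (expandHom_injective hinj one_pos)
  exact finite_integralClosure_of_normal (S := R'[X])
    (IsFractionRing.liftAlgHom (g := Algebra.ofId R[X] (FractionRing R'[X])) hAF)

theorem isN2_polynomial (R : Type u) [CommRing R] [IsDomain R] [IsNoetherianRing R] (h : CAlg.IsN2 R) :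
    CAlg.IsN2 R[X] := by
  classical
  refine NormalLib.isN2_of_purelyInseparable fun L _ _ _ _ hfin hpi => ?_
  let A := R[X]
  let KX := FractionRing A
  let K := FractionRing R
  let p := ringExpChar KX
  have : ExpChar KX p := inferInstance
  have : ExpChar R p := RingHom.expChar ((algebraMap A KX).comp Polynomial.C)
    ((IsFractionRing.injective A KX).comp Polynomial.C_injective) p
  have : ExpChar K p := expChar_of_injective_ringHom (IsFractionRing.injective R K) p
  have : ExpChar L p := expChar_of_injective_ringHom (algebraMap KX L).injective p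
  let e := IsPurelyInseparable.exponent KX L
  let q := p ^ e
  have hq : 0 < q := pow_pos (expChar_pos KX p) e
  let b := Module.finBasis KX L
  have hb : ∀ i, ∃ s : A, s ≠ 0 ∧ ∃ P : A, (algebraMap A L s * b i) ^ q = algebraMap A L P := by
    intro i
    obtain ⟨k, hk⟩ := IsPurelyInseparable.exponent_def' KX p (b i)
    obtain ⟨a, s, hs, rfl⟩ := IsFractionRing.div_surjective (A := A) k
    refine ⟨s, nonZeroDivisors.ne_zero hs, s ^ (q - 1) * a, ?_⟩
    rw [mul_pow, show b i ^ q = b i ^ p ^ e from rfl, ← hk, map_div₀, ← IsScalarTower.algebraMap_apply,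
      ← IsScalarTower.algebraMap_apply, map_mul, map_pow]
    have hne : algebraMap A L s ≠ 0 := by
      rw [IsScalarTower.algebraMap_apply A KX L]
      exact (map_ne_zero_iff _ (algebraMap KX L).injective).2
        ((map_ne_zero_iff _ (IsFractionRing.injective A KX)).2 (nonZeroDivisors.ne_zero hs))
    conv_lhs => rw [show q = q - 1 + 1 by omega, pow_succ]
    field_simp
  choose s hs0 P hP using hb
  let Ω := AlgebraicClosure K
  let coeffs : Finset R := Finset.univ.biUnion fun i => (Finset.range ((P i).natDegree + 1)).image (P i).coeff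
  choose ω hω using fun c : R => IsAlgClosed.exists_pow_nat_eq (algebraMap R Ω c) hq
  let K' := IntermediateField.adjoin K ((coeffs.image ω : Finset Ω) : Set Ω)
  have : FiniteDimensional K K' := IntermediateField.finiteDimensional_adjoin fun w hw => by
    obtain ⟨c, -, rfl⟩ := Finset.mem_image.1 (Finset.mem_coe.1 hw)
    refine IsIntegral.of_pow hq ?_
    rw [hω, IsScalarTower.algebraMap_apply R K Ω]
    exact isIntegral_algebraMap
  let R' := integralClosure R K'
  have : Module.Finite R R' := h K' inferInstance
  have hRK' : Function.Injective (algebraMap R K') := by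
    rw [IsScalarTower.algebraMap_eq R K K']; exact (algebraMap K K').injective.comp (IsFractionRing.injective R K)
  have hinj : Function.Injective (algebraMap R R') := fun a b hab => hRK' (congrArg Subtype.val hab)
  have : IsIntegrallyClosed R' := integralClosure.isIntegrallyClosedOfFiniteExtension K
  have hroot : ∀ c ∈ coeffs, ∃ r : R', r ^ q = algebraMap R R' c := by
    intro c hc
    have hmem : ω c ∈ K' := IntermediateField.subset_adjoin K _ (Finset.mem_coe.2 (Finset.mem_image_of_mem ω hc))
    have he : (⟨ω c, hmem⟩ : K') ^ q = algebraMap R K' c := by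
      refine Subtype.ext ?_
      show ω c ^ q = _
      rw [hω, IsScalarTower.algebraMap_apply R K Ω, IsScalarTower.algebraMap_apply R K K']
      rfl
    exact ⟨⟨⟨ω c, hmem⟩, IsIntegral.of_pow hq (he ▸ isIntegral_algebraMap)⟩, Subtype.ext he⟩
  choose r hr using hroot
  let S := R'[X]
  have : ExpChar R' p := expChar_of_injective_ringHom hinj p
  have : ExpChar S p := expChar_of_injective_ringHom (Polynomial.C_injective (R := R')) p
  let _ : Algebra A S := (expandHom R R' q).toAlgebra
  have : Module.Finite A S := expandHom_finite hq
  let F := FractionRing S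
  have hAF : Function.Injective (algebraMap A F) := by
    rw [IsScalarTower.algebraMap_eq A S F]
    exact (IsFractionRing.injective S F).comp (expandHom_injective hinj hq)
  let _ : Algebra KX F := (IsFractionRing.lift hAF).toAlgebra
  have : IsScalarTower A KX F := IsScalarTower.of_algebraMap_eq fun a => (IsLocalization.lift_eq _ a).symm
  let Ω' := AlgebraicClosure F
  have : ExpChar Ω' p := expChar_of_injective_ringHom (f := (algebraMap F Ω').comp (algebraMap S F))
    ((algebraMap F Ω').injective.comp (IsFractionRing.injective S F)) p
  have : Algebra.IsAlgebraic KX L := Algebra.IsAlgebraic.of_finite KX L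
  let j : L →ₐ[KX] Ω' := IsAlgClosed.lift
  have hc : ∀ i, ∃ c : S, j (algebraMap A L (s i) * b i) = algebraMap F Ω' (algebraMap S F c) := by
    intro i
    have hmem : ∀ n ∈ Finset.range ((P i).natDegree + 1), (P i).coeff n ∈ coeffs := fun n hn =>
      Finset.mem_biUnion.2 ⟨i, Finset.mem_univ i, Finset.mem_image_of_mem _ hn⟩
    let c : S := ∑ n ∈ (Finset.range ((P i).natDegree + 1)).attach,
      Polynomial.C (r _ (hmem n.1 n.2)) * Polynomial.X ^ n.1
    have hcq : c ^ q = algebraMap A S (P i) := by
      rw [sum_pow_char_pow p e]
      show _ = expandHom R R' q (P i)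
      conv_rhs => rw [(P i).as_sum_range_C_mul_X_pow, map_sum, ← Finset.sum_attach]
      refine Finset.sum_congr rfl fun n _ => ?_
      rw [mul_pow, ← pow_mul, ← map_pow, show p ^ e = q from rfl, hr]
      show _ = Polynomial.expand R' q ((Polynomial.C ((P i).coeff n) * Polynomial.X ^ (n : ℕ)).map (algebraMap R R'))
      rw [Polynomial.map_mul, Polynomial.map_C, Polynomial.map_pow, Polynomial.map_X, map_mul, map_pow,
        Polynomial.expand_C, Polynomial.expand_X, ← pow_mul, mul_comm q]
    refine ⟨c, iterateFrobenius_inj Ω' p e ?_⟩
    rw [iterateFrobenius_def, iterateFrobenius_def, ← map_pow j, ← map_pow (algebraMap F Ω'), ← map_pow (algebraMap S F),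
      show p ^ e = q from rfl, hP, hcq, IsScalarTower.algebraMap_apply A KX L, AlgHom.commutes,
      IsScalarTower.algebraMap_apply KX F Ω', ← IsScalarTower.algebraMap_apply A KX F,
      IsScalarTower.algebraMap_apply A S F]
  choose c hc using hc
  have hrange : ∀ y : L, j y ∈ (IsScalarTower.toAlgHom KX F Ω').range := by
    intro y
    rw [← b.sum_repr y, map_sum]
    refine Subalgebra.sum_mem _ fun i _ => ?_
    rw [map_smul]
    refine Subalgebra.smul_mem _ ?_ _
    have hne : algebraMap A KX (s i) ≠ 0 := (map_ne_zero_iff _ (IsFractionRing.injective A KX)).2 (hs0 i)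
    have h1 : b i = (algebraMap A KX (s i))⁻¹ • (algebraMap A L (s i) * b i) := by
      rw [Algebra.smul_def, ← mul_assoc, IsScalarTower.algebraMap_apply A KX L, ← map_mul,
        inv_mul_cancel₀ hne, map_one, one_mul]
    rw [h1, map_smul, hc]
    refine Subalgebra.smul_mem _ ?_ _
    exact ⟨_, rfl⟩
  let ι := IsScalarTower.toAlgHom KX F Ω'
  let φ : L →ₐ[KX] F :=
    (AlgEquiv.ofInjective ι ι.toRingHom.injective).symm.toAlgHom.comp (j.codRestrict ι.range hrange)
  exact finite_integralClosure_of_normal (S := S) (φ.restrictScalars A)

end NagataFG
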