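import Groth.Agent.NagataFG.Key
import Groth.Agent.NagataFG.Poly

/-! Algebras of finite type over Nagata rings are Nagata. -/

set_option autoImplicit false

universe u

open IsLocalRing
open scoped nonZeroDivisors Polynomial

namespace NagataFG

theorem isNagata_of_surjective {R S : Type u} [CommRing R] [CommRing S] (f : R →+* S) (hf : Function.Surjective f)
    (hR : CAlg.IsNagata R) : CAlg.IsNagata S := by
  let _ : Algebra R S := f.toAlgebra
  have : Module.Finite R S := Module.Finite.of_surjective (Algebra.linearMap R S) hf
  exact isNagata_of_finite hR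

theorem isNagata_of_isLocalization {R : Type u} [CommRing R] (M : Submonoid R) (S : Type u) [CommRing S] [Algebra R S]
    [IsLocalization M S] (hR : CAlg.IsNagata R) : CAlg.IsNagata S := by
  have := hR.1
  refine ⟨IsLocalization.isNoetherianRing M S inferInstance, fun q _ => ?_⟩
  let p := q.comap (algebraMap R S)
  let g : (R ⧸ p) →+* (S ⧸ q) := Ideal.quotientMap q (algebraMap R S) le_rfl
  let _ : Algebra (R ⧸ p) (S ⧸ q) := g.toAlgebra
  have hq : p.map (algebraMap R S) = q := IsLocalization.map_comap M S q
  have : IsLocalization (Algebra.algebraMapSubmonoid (R ⧸ p) M) (S ⧸ q) :=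
    IsLocalization.of_surjective M S (Ideal.Quotient.mk p) Ideal.Quotient.mk_surjective
      (Ideal.Quotient.mk q) Ideal.Quotient.mk_surjective rfl (by rw [Ideal.mk_ker, Ideal.mk_ker, hq])
  exact NormalLib.isN2_of_isLocalization (Algebra.algebraMapSubmonoid (R ⧸ p) M) (S ⧸ q) (hR.2 p)

variable {R S : Type u} [CommRing R] [IsDomain R] [CommRing S] [IsDomain S] [Algebra R S]

theorem isIntegrallyClosed_away [IsIntegrallyClosed R] {x : S} (hx : IsBirationalMonogenic R x) :
    ∃ f : S, f ≠ 0 ∧ IsIntegrallyClosed (Localization.Away f) := by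
  obtain ⟨b, a, hb, hba⟩ := hx.fraction
  refine ⟨algebraMap R S b, (map_ne_zero_iff _ hx.injective).2 hb, ?_⟩
  let Rb := Localization.Away b
  let Sb := Localization.Away (algebraMap R S b)
  have : IsDomain Rb := IsLocalization.isDomain_localization (powers_le_nonZeroDivisors_of_noZeroDivisors hb)
  have : IsIntegrallyClosed Rb := isIntegrallyClosed_of_isLocalization Rb (Submonoid.powers b)
    (powers_le_nonZeroDivisors_of_noZeroDivisors hb)
  have hM : Submonoid.powers b ≤ (Submonoid.powers (algebraMap R S b)).comap (algebraMap R S) := by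
    rintro _ ⟨n, rfl⟩
    exact ⟨n, (map_pow _ _ _).symm⟩
  let g : Rb →+* Sb := IsLocalization.map Sb (algebraMap R S) hM
  have hpow : Submonoid.powers b ≤ R⁰ := powers_le_nonZeroDivisors_of_noZeroDivisors hb
  have hg : Function.Injective g := by
    rw [injective_iff_map_eq_zero]
    intro z hz
    obtain ⟨r, s, rfl⟩ := IsLocalization.exists_mk'_eq (Submonoid.powers b) z
    rw [IsLocalization.map_mk', IsLocalization.mk'_eq_zero_iff] at hz
    obtain ⟨⟨_, n, rfl⟩, hn⟩ := hz
    rw [IsLocalization.mk'_eq_zero_iff]
    refine ⟨⟨b ^ n, Submonoid.pow_mem _ (Submonoid.mem_powers b) n⟩, hx.injective ?_⟩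
    rw [map_mul, map_pow, map_zero]
    exact hn
  have hmem : ∀ y : S, algebraMap S Sb y ∈ g.range := by
    intro y
    have hy : y ∈ Algebra.adjoin R ({x} : Set S) := hx.generates.symm ▸ Algebra.mem_top
    induction hy using Algebra.adjoin_induction with
    | mem w hw =>
      obtain rfl := hw
      refine ⟨IsLocalization.mk' Rb a ⟨b, Submonoid.mem_powers b⟩, ?_⟩
      rw [IsLocalization.map_mk', IsLocalization.mk'_eq_iff_eq_mul, ← map_mul]
      congr 1
      rw [mul_comm]; exact hba.symm
    | algebraMap r => exact ⟨algebraMap R Rb r, IsLocalization.map_eq hM r⟩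
    | add u v _ _ hu hv => rw [map_add]; exact add_mem hu hv
    | mul u v _ _ hu hv => rw [map_mul]; exact mul_mem hu hv
  have hsurj : Function.Surjective g := fun z => by
    obtain ⟨y, ⟨_, n, rfl⟩, rfl⟩ := IsLocalization.exists_mk'_eq (Submonoid.powers (algebraMap R S b)) z
    obtain ⟨w, hw⟩ := hmem y
    refine ⟨w * IsLocalization.mk' Rb 1 (⟨b ^ n, n, rfl⟩ : Submonoid.powers b), ?_⟩
    rw [map_mul, hw, IsLocalization.map_mk', IsLocalization.mul_mk'_eq_mk'_of_mul]
    congr 1
    · rw [map_one, mul_one]
    · exact Subtype.ext (map_pow _ _ _)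
  exact IsIntegrallyClosed.of_equiv (RingEquiv.ofBijective g ⟨hg, hsurj⟩)

theorem isN1_of_birationalMonogenic [IsIntegrallyClosed R] (hR : CAlg.IsNagata R) {x : S}
    (hx : IsBirationalMonogenic R x) : CAlg.IsN1 S := by
  have := hR.1
  have hftS : Algebra.FiniteType R S := ⟨⟨{x}, by rw [Finset.coe_singleton]; exact hx.generates⟩⟩
  have : IsNoetherianRing S := Algebra.FiniteType.isNoetherianRing R S
  refine NormalLib.isN1_iff.2 ⟨isIntegrallyClosed_away hx, fun m _ => ?_⟩
  let p := m.comap (algebraMap R S)
  let M := Algebra.algebraMapSubmonoid S p.primeCompl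
  let Rp := Localization.AtPrime p
  let Sp := Localization M
  have hple : p.primeCompl ≤ R⁰ := p.primeCompl_le_nonZeroDivisors
  have hMle : M ≤ S⁰ := by
    rintro _ ⟨r, hr, rfl⟩
    exact mem_nonZeroDivisors_of_ne_zero ((map_ne_zero_iff _ hx.injective).2 (nonZeroDivisors.ne_zero (hple hr)))
  have : IsDomain Rp := IsLocalization.isDomain_localization hple
  have : IsDomain Sp := IsLocalization.isDomain_localization hMle
  have : IsIntegrallyClosed Rp := isIntegrallyClosed_of_isLocalization Rp p.primeCompl hple
  have hRp : CAlg.IsNagata Rp := isNagata_of_isLocalization p.primeCompl Rp hR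
  have : IsNoetherianRing Sp := IsLocalization.isNoetherianRing M Sp inferInstance
  let xp : Sp := algebraMap S Sp x
  have hinjRS : Function.Injective (algebraMap R Sp) := by
    rw [IsScalarTower.algebraMap_eq R S Sp]
    exact (IsLocalization.injective Sp hMle).comp hx.injective
  have hxp : IsBirationalMonogenic Rp xp := by
    refine ⟨?_, eq_top_iff.2 fun z hz => ?_, ?_⟩
    · rw [injective_iff_map_eq_zero]
      intro z hz
      obtain ⟨r, s, rfl⟩ := IsLocalization.exists_mk'_eq p.primeCompl z
      have h1 := congrArg (algebraMap Rp Sp) (IsLocalization.mk'_spec Rp r s)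
      rw [map_mul, hz, zero_mul, ← IsScalarTower.algebraMap_apply] at h1
      rw [show r = 0 from hinjRS (h1.symm.trans (map_zero _).symm), IsLocalization.mk'_zero]
    · clear hz
      obtain ⟨y, ⟨_, r, hr, rfl⟩, rfl⟩ := IsLocalization.exists_mk'_eq M z
      have hy : algebraMap S Sp y ∈ Algebra.adjoin Rp ({xp} : Set Sp) := by
        have hy : y ∈ Algebra.adjoin R ({x} : Set S) := hx.generates.symm ▸ Algebra.mem_top
        induction hy using Algebra.adjoin_induction with
        | mem w hw => obtain rfl := hw; exact Algebra.subset_adjoin rfl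
        | algebraMap c =>
          rw [← IsScalarTower.algebraMap_apply R S Sp, IsScalarTower.algebraMap_apply R Rp Sp]
          exact Subalgebra.algebraMap_mem _ _
        | add u v _ _ hu hv => rw [map_add]; exact Subalgebra.add_mem _ hu hv
        | mul u v _ _ hu hv => rw [map_mul]; exact Subalgebra.mul_mem _ hu hv
      have he : IsLocalization.mk' Sp y (⟨algebraMap R S r, r, hr, rfl⟩ : M) =
          algebraMap S Sp y * algebraMap Rp Sp (IsLocalization.mk' Rp 1 (⟨r, hr⟩ : p.primeCompl)) := by
        have h1 := congrArg (algebraMap Rp Sp) (IsLocalization.mk'_spec Rp 1 (⟨r, hr⟩ : p.primeCompl))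
        rw [map_mul, map_one, map_one, ← IsScalarTower.algebraMap_apply R Rp Sp,
          IsScalarTower.algebraMap_apply R S Sp] at h1
        rw [IsLocalization.mk'_eq_iff_eq_mul, mul_assoc]
        show _ = _ * (_ * algebraMap S Sp (algebraMap R S r))
        rw [h1, mul_one]
      rw [he]
      exact Subalgebra.mul_mem _ hy (Subalgebra.algebraMap_mem _ _)
    · obtain ⟨b, a, hb, hba⟩ := hx.fraction
      refine ⟨algebraMap R Rp b, algebraMap R Rp a,
        (map_ne_zero_iff _ (IsLocalization.injective Rp hple)).2 hb, ?_⟩
      rw [← IsScalarTower.algebraMap_apply R Rp Sp, ← IsScalarTower.algebraMap_apply R Rp Sp,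
        IsScalarTower.algebraMap_apply R S Sp, IsScalarTower.algebraMap_apply R S Sp, ← map_mul, hba]
  have hdisj : Disjoint (M : Set S) (m : Set S) := by
    rw [Set.disjoint_left]
    rintro _ ⟨r, hr, rfl⟩ hm
    exact hr hm
  let m' := m.map (algebraMap S Sp)
  have hm'p : m'.IsPrime := IsLocalization.isPrime_of_isPrime_disjoint M Sp m inferInstance hdisj
  have hcomap : m'.comap (algebraMap S Sp) = m := IsLocalization.comap_map_of_isPrime_disjoint M Sp inferInstance hdisj
  have hm' : m'.IsMaximal := by
    obtain ⟨Q, hQ, hle⟩ := Ideal.exists_le_maximal m' hm'p.ne_top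
    have hQc : Q.comap (algebraMap S Sp) = m :=
      ((‹m.IsMaximal›).eq_of_le (Ideal.IsPrime.ne_top inferInstance) (hcomap ▸ Ideal.comap_mono hle)).symm
    have hQm : Q = m' := (IsLocalization.map_comap M Sp Q).symm.trans (congrArg (Ideal.map (algebraMap S Sp)) hQc)
    exact hQm ▸ hQ
  have : (m'.comap (algebraMap Rp Sp)).IsMaximal := by
    have h2 : maximalIdeal Rp = m'.comap (algebraMap Rp Sp) := by
      refine (maximalIdeal.isMaximal Rp).eq_of_le (Ideal.IsPrime.ne_top inferInstance) ?_
      rw [← IsLocalization.AtPrime.map_eq_maximalIdeal p Rp, Ideal.map_le_iff_le_comap]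
      intro r hr
      rw [Ideal.mem_comap, Ideal.mem_comap, ← IsScalarTower.algebraMap_apply R Rp Sp,
        IsScalarTower.algebraMap_apply R S Sp]
      exact Ideal.mem_map_of_mem _ hr
    exact h2 ▸ maximalIdeal.isMaximal Rp
  let A := Localization.AtPrime m'
  have : IsDomain A := IsLocalization.isDomain_localization m'.primeCompl_le_nonZeroDivisors
  have : IsNoetherianRing A := IsLocalization.isNoetherianRing m'.primeCompl A inferInstance
  have := isReduced_completion hRp hxp m' A
  have hA : CAlg.IsN1 A := NormalLib.isN1_of_isReduced_completion A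
  have h3 : IsLocalization.AtPrime A m := by
    have h : IsLocalization (m'.comap (algebraMap S Sp)).primeCompl A :=
      IsLocalization.isLocalization_atPrime_localization_atPrime M m'
    have e : (m'.comap (algebraMap S Sp)).primeCompl = m.primeCompl := by
      ext z
      show z ∉ m'.comap (algebraMap S Sp) ↔ z ∉ m
      rw [hcomap]
    show IsLocalization m.primeCompl A
    exact e ▸ h
  have : IsDomain (Localization.AtPrime m) := IsLocalization.isDomain_localization m.primeCompl_le_nonZeroDivisors
  exact NormalLib.isN1_of_ringEquiv (IsLocalization.algEquiv m.primeCompl A (Localization.AtPrime m)).toRingEquiv hA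

/-- Monogenic extensions of Nagata domains are N-2. -/
theorem isN2_of_monogenic (hR : CAlg.IsNagata R) (hinj : Function.Injective (algebraMap R S)) (x : S)
    (hgen : Algebra.adjoin R ({x} : Set S) = ⊤) : CAlg.IsN2 S := by
  classical
  have := hR.1
  have hN2 : CAlg.IsN2 R := NormalLib.isN2_of_ringEquiv (RingEquiv.quotientBot R) (hR.2 ⊥)
  by_cases halg : IsAlgebraic R x
  swap
  · have hbij : Function.Bijective (Polynomial.aeval x : R[X] →ₐ[R] S) := by
      refine ⟨transcendental_iff_injective.1 halg, ?_⟩
      rw [← AlgHom.range_eq_top, ← Algebra.adjoin_singleton_eq_range_aeval, hgen]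
    exact NormalLib.isN2_of_ringEquiv (AlgEquiv.ofBijective _ hbij).toRingEquiv (isN2_polynomial R hN2)
  intro M _ _ _ _ hfin
  let KR := FractionRing R
  let KS := FractionRing S
  let _ : Algebra R M := ((algebraMap S M).comp (algebraMap R S)).toAlgebra
  have : IsScalarTower R S M := IsScalarTower.of_algebraMap_eq' rfl
  have hSM : Function.Injective (algebraMap S M) := by
    rw [IsScalarTower.algebraMap_eq S KS M]; exact (algebraMap KS M).injective.comp (IsFractionRing.injective S KS)
  have hRM : Function.Injective (algebraMap R M) := hSM.comp hinj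
  let _ : Algebra KR M := (IsFractionRing.lift hRM).toAlgebra
  have : IsScalarTower R KR M := IsScalarTower.of_algebraMap_eq fun r => (IsLocalization.lift_eq _ r).symm
  have : FiniteDimensional KR M := by
    have hRKS : Function.Injective (algebraMap R KS) := by
      rw [IsScalarTower.algebraMap_eq R S KS]; exact (IsFractionRing.injective S KS).comp hinj
    let _ : Algebra KR KS := (IsFractionRing.lift hRKS).toAlgebra
    have : IsScalarTower R KR KS := IsScalarTower.of_algebraMap_eq fun r => (IsLocalization.lift_eq _ r).symm
    let _ : IsScalarTower KR KS M := IsScalarTower.of_algebraMap_eq' (IsLocalization.ringHom_ext R⁰ (by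
      ext r
      simp only [RingHom.comp_apply]
      rw [← IsScalarTower.algebraMap_apply R KR M, ← IsScalarTower.algebraMap_apply R KR KS,
        IsScalarTower.algebraMap_apply R S KS, ← IsScalarTower.algebraMap_apply S KS M,
        ← IsScalarTower.algebraMap_apply]))
    have hx : IsIntegral KR (algebraMap S KS x) := by
      obtain ⟨P, hP0, hP⟩ := halg
      refine IsAlgebraic.isIntegral ⟨P.map (algebraMap R KR),
        (Polynomial.map_ne_zero_iff (IsFractionRing.injective R KR)).2 hP0, ?_⟩
      rw [Polynomial.aeval_map_algebraMap, Polynomial.aeval_algebraMap_apply, hP, map_zero]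
    let D := Algebra.adjoin KR ({algebraMap S KS x} : Set KS)
    have : FiniteDimensional KR D := Module.Finite.iff_fg.2 hx.fg_adjoin_singleton
    have hD : ∀ s : S, algebraMap S KS s ∈ D := fun s => by
      have hs : s ∈ Algebra.adjoin R ({x} : Set S) := hgen.symm ▸ Algebra.mem_top
      induction hs using Algebra.adjoin_induction with
      | mem w hw => obtain rfl := hw; exact Algebra.subset_adjoin rfl
      | algebraMap c =>
        rw [← IsScalarTower.algebraMap_apply R S KS, IsScalarTower.algebraMap_apply R KR KS]
        exact D.algebraMap_mem _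
      | add u v _ _ hu hv => rw [map_add]; exact D.add_mem hu hv
      | mul u v _ _ hu hv => rw [map_mul]; exact D.mul_mem hu hv
    have : FiniteDimensional KR KS := NormalLib.finite_of_fractions D fun z => by
      obtain ⟨u, v, hv, rfl⟩ := IsFractionRing.div_surjective (A := S) z
      have hv0 : algebraMap S KS v ≠ 0 :=
        (map_ne_zero_iff _ (IsFractionRing.injective S KS)).2 (nonZeroDivisors.ne_zero hv)
      exact ⟨_, hD u, _, hD v, hv0, div_mul_cancel₀ _ hv0⟩
    exact Module.Finite.trans KS M
  let R' := integralClosure R M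
  have : Module.Finite R R' := hN2 M inferInstance
  have hR' : CAlg.IsNagata R' := isNagata_of_finite hR
  have : IsIntegrallyClosed R' := integralClosure.isIntegrallyClosedOfFiniteExtension KR
  have : IsFractionRing R' M := integralClosure.isFractionRing_of_finite_extension KR M
  let C := Algebra.adjoin R' ({algebraMap S M x} : Set M)
  let x₁ : C := ⟨algebraMap S M x, Algebra.subset_adjoin rfl⟩
  have hC : IsBirationalMonogenic R' x₁ := by
    refine ⟨fun a b h => Subtype.ext (congrArg (fun z : C => (z : M)) h), ?_, ?_⟩
    · refine Subalgebra.map_injective (f := C.val) Subtype.val_injective ?_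
      rw [AlgHom.map_adjoin, Algebra.map_top, Subalgebra.range_val, Set.image_singleton]
      rfl
    · obtain ⟨a, b, hb, hab⟩ := IsFractionRing.div_surjective (A := R') (algebraMap S M x)
      refine ⟨b, a, nonZeroDivisors.ne_zero hb, Subtype.ext ?_⟩
      show algebraMap R' M b * algebraMap S M x = algebraMap R' M a
      rw [← hab, mul_div_cancel₀ _
        ((map_ne_zero_iff _ (IsFractionRing.injective R' M)).2 (nonZeroDivisors.ne_zero hb))]
  have hN1 : CAlg.IsN1 C := isN1_of_birationalMonogenic hR' hC
  have hmemC : ∀ s : S, algebraMap S M s ∈ C := fun s => by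
    have hs : s ∈ Algebra.adjoin R ({x} : Set S) := hgen.symm ▸ Algebra.mem_top
    induction hs using Algebra.adjoin_induction with
    | mem w hw => obtain rfl := hw; exact Algebra.subset_adjoin rfl
    | algebraMap c =>
      rw [← IsScalarTower.algebraMap_apply R S M, IsScalarTower.algebraMap_apply R R' M]
      exact C.algebraMap_mem _
    | add u v _ _ hu hv => rw [map_add]; exact C.add_mem hu hv
    | mul u v _ _ hu hv => rw [map_mul]; exact C.mul_mem hu hv
  let _ : Algebra S C := ((algebraMap S M).codRestrict C.toSubring hmemC).toAlgebra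
  have : IsScalarTower S C M := IsScalarTower.of_algebraMap_eq fun _ => rfl
  have : IsNoetherianRing S := by
    have : Algebra.FiniteType R S := ⟨⟨{x}, by rw [Finset.coe_singleton]; exact hgen⟩⟩
    exact Algebra.FiniteType.isNoetherianRing R S
  have : Module.Finite S C := by
    obtain ⟨G, hG⟩ := (inferInstance : Module.Finite R R').fg_top
    have htop : Algebra.adjoin S ((G.image (algebraMap R' C) : Finset C) : Set C) = ⊤ := by
      refine eq_top_iff.2 fun z hzT => ?_
      clear hzT
      have hz : z ∈ Algebra.adjoin R' ({x₁} : Set C) := hC.generates.symm ▸ Algebra.mem_top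
      have key : ∀ r : R', algebraMap R' C r ∈ Algebra.adjoin S ((G.image (algebraMap R' C) : Finset C) : Set C) := by
        intro r
        have hr : r ∈ Submodule.span R (G : Set R') := hG.symm ▸ Submodule.mem_top
        induction hr using Submodule.span_induction with
        | mem y hy => exact Algebra.subset_adjoin (Finset.mem_coe.2 (Finset.mem_image_of_mem _ hy))
        | zero => rw [map_zero]; exact Subalgebra.zero_mem _
        | add a b _ _ ha hb => rw [map_add]; exact Subalgebra.add_mem _ ha hb
        | smul c a _ ha =>
          rw [Algebra.smul_def, map_mul]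
          refine Subalgebra.mul_mem _ ?_ ha
          rw [show algebraMap R' C (algebraMap R R' c) = algebraMap S C (algebraMap R S c) from
            Subtype.ext (IsScalarTower.algebraMap_apply R S M c)]
          exact Subalgebra.algebraMap_mem _ _
      induction hz using Algebra.adjoin_induction with
      | mem w hw => obtain rfl := hw; rw [show x₁ = algebraMap S C x from rfl]; exact Subalgebra.algebraMap_mem _ _
      | algebraMap r => exact key r
      | add u v _ _ hu hv => exact Subalgebra.add_mem _ hu hv
      | mul u v _ _ hu hv => exact Subalgebra.mul_mem _ hu hv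
    refine ⟨?_⟩
    rw [← Algebra.top_toSubmodule, ← htop]
    refine fg_adjoin_of_finite (Finset.finite_toSet _) fun z hz => ?_
    obtain ⟨r, -, rfl⟩ := Finset.mem_image.1 (Finset.mem_coe.1 hz)
    refine (isIntegral_algHom_iff (IsScalarTower.toAlgHom S C M) Subtype.val_injective).1 ?_
    show IsIntegral S (r : M)
    exact (r.2 : IsIntegral R (r : M)).tower_top
  have : IsFractionRing C M := IsFractionRing.of_field C M fun z => by
    obtain ⟨a, b, -, rfl⟩ := IsFractionRing.div_surjective (A := R') z
    exact ⟨algebraMap R' C a, algebraMap R' C b, rfl⟩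
  have : Module.Finite C (integralClosure C (FractionRing C)) := hN1
  have : Module.Finite C (integralClosure C M) :=
    NormalLib.finite_integralClosure_of_algEquiv (IsLocalization.algEquiv C⁰ (FractionRing C) M)
  have : Module.Finite S (integralClosure C M) := Module.Finite.trans C _
  have : Algebra.IsIntegral S C := Algebra.IsIntegral.of_finite S C
  let g : integralClosure C M →ₗ[S] integralClosure S M :=
    { toFun := fun z => ⟨z, isIntegral_trans (z : M) z.2⟩
      map_add' := fun _ _ => rfl
      map_smul' := fun a z => Subtype.ext (by simp) }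
  exact Module.Finite.of_surjective g fun z => ⟨⟨z, z.2.tower_top⟩, rfl⟩

end NagataFG
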