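import Groth.Agent.NagataFG.Japanese
import Groth.Agent.NormalLib.Regular

/-! N-1 from local Nagata rings and a generic normality condition. -/

set_option autoImplicit false

universe u

open scoped nonZeroDivisors

namespace NagataFG

theorem isN1_of_local_nagata {A : Type u} [CommRing A] [IsNoetherianRing A]
    (h : ∀ (m : Ideal A) [m.IsMaximal], CAlg.IsNagata (Localization.AtPrime m))
    {T : Type u} [CommRing T] [IsDomain T] [Algebra A T] [Algebra.FiniteType A T]
    (hf : ∃ f : T, f ≠ 0 ∧ IsIntegrallyClosed (Localization.Away f)) : CAlg.IsN1 T := by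
  have : IsNoetherianRing T := Algebra.FiniteType.isNoetherianRing A T
  refine NormalLib.isN1_iff.2 ⟨hf, fun M _ => ?_⟩
  obtain ⟨m, hm, hle⟩ := Ideal.exists_le_maximal (M.comap (algebraMap A T)) (Ideal.IsPrime.ne_top inferInstance)
  let Am := Localization.AtPrime m
  let TM := Localization.AtPrime M
  let φ : Am →+* TM := IsLocalization.lift (M := m.primeCompl) (g := algebraMap A TM) fun s => by
    rw [IsScalarTower.algebraMap_apply A T TM]
    exact IsLocalization.map_units TM (⟨algebraMap A T s, fun hs => s.2 (hle hs)⟩ : M.primeCompl)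
  let _ : Algebra Am TM := φ.toAlgebra
  have : IsScalarTower A Am TM := IsScalarTower.of_algebraMap_eq fun a => (IsLocalization.lift_eq _ a).symm
  have : Algebra.EssFiniteType T TM := Algebra.EssFiniteType.of_isLocalization TM M.primeCompl
  have : Algebra.EssFiniteType A TM := Algebra.EssFiniteType.comp A T TM
  have : Algebra.EssFiniteType Am TM := Algebra.EssFiniteType.of_comp A Am TM
  have hAm : CAlg.IsUniversallyJapanese Am := fun S _ _ _ hS =>
    NormalLib.isN2_of_ringEquiv (RingEquiv.quotientBot S) ((isNagata_of_finiteType Am (h m) S).2 ⊥)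
  have : IsDomain TM := IsLocalization.isDomain_localization M.primeCompl_le_nonZeroDivisors
  exact NormalLib.finite_integralClosure_self
    (isUniversallyJapanese_of_essFiniteType Am hAm TM TM inferInstance)

theorem exists_normal_away_of_regLocus_open {T : Type u} [CommRing T] [IsDomain T] [IsNoetherianRing T]
    (h : IsOpen {p : PrimeSpectrum T | IsRegularLocalRing (Localization.AtPrime p.asIdeal)}) :
    ∃ f : T, f ≠ 0 ∧ IsIntegrallyClosed (Localization.Away f) := by
  let η : PrimeSpectrum T := ⟨⊥, Ideal.isPrime_bot⟩
  have hη : IsRegularLocalRing (Localization.AtPrime η.asIdeal) := by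
    have : IsFractionRing T (Localization.AtPrime η.asIdeal) := by
      show IsLocalization T⁰ _
      have e : η.asIdeal.primeCompl = T⁰ := by
        ext z
        show z ∉ (⊥ : Ideal T) ↔ _
        rw [Ideal.mem_bot, mem_nonZeroDivisors_iff_ne_zero]
      exact e ▸ (inferInstance : IsLocalization η.asIdeal.primeCompl (Localization.AtPrime η.asIdeal))
    exact NormalLib.isRegularLocalRing_of_isField _ (IsFractionRing.toField T).toIsField
  obtain ⟨_, ⟨f, rfl⟩, hfη, hsub⟩ :=
    PrimeSpectrum.isTopologicalBasis_basic_opens.exists_subset_of_mem_open (a := η) hη h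
  have hf0 : f ≠ 0 := fun h0 => hfη (by simp [h0])
  refine ⟨f, hf0, ?_⟩
  have hpow := powers_le_nonZeroDivisors_of_noZeroDivisors hf0
  let Tf := Localization.Away f
  have : IsDomain Tf := IsLocalization.isDomain_localization hpow
  refine IsIntegrallyClosed.of_localization_maximal fun Q _ hQ => ?_
  let p := Q.comap (algebraMap T Tf)
  have hp : f ∉ p := fun hfp => hQ.isPrime.ne_top (Ideal.eq_top_of_isUnit_mem _ hfp
    (IsLocalization.Away.algebraMap_isUnit f))
  have hreg : IsRegularLocalRing (Localization.AtPrime p) := hsub (show (⟨p, inferInstance⟩ : PrimeSpectrum T) ∈ _ from hp)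
  have : IsDomain (Localization.AtPrime p) := IsLocalization.isDomain_localization p.primeCompl_le_nonZeroDivisors
  have := NormalLib.isIntegrallyClosed_of_isRegularLocalRing (Localization.AtPrime p)
  have h3 : IsLocalization.AtPrime (Localization.AtPrime Q) p :=
    IsLocalization.isLocalization_atPrime_localization_atPrime (Submonoid.powers f) Q
  exact IsIntegrallyClosed.of_equiv (IsLocalization.algEquiv p.primeCompl (Localization.AtPrime p) (Localization.AtPrime Q)).toRingEquiv

end NagataFG
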