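import Groth.Agent.NagataFG.Principal
import Groth.Agent.NormalLib.CompletionReduced
import Mathlib.RingTheory.Jacobson.Ring
import Mathlib.FieldTheory.IsAlgClosed.AlgebraicClosure
import Mathlib.RingTheory.Localization.Integral

/-! Analytic unramification of birational monogenic extensions of normal Nagata domains. -/

set_option autoImplicit false

universe u

open IsLocalRing
open scoped TensorProduct nonZeroDivisors

namespace NagataFG

theorem isNagata_of_finite {R C : Type u} [CommRing R] [CommRing C] [Algebra R C] [Module.Finite R C]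
    (hR : CAlg.IsNagata R) : CAlg.IsNagata C := by
  have := hR.1
  refine ⟨isNoetherianRing_iff.2 (isNoetherian_of_tower R (isNoetherian_of_isNoetherianRing_of_finite R C)),
    fun q _ => ?_⟩
  let p : Ideal R := RingHom.ker (algebraMap R (C ⧸ q))
  have : p.IsPrime := RingHom.ker_isPrime _
  let _ : Algebra (R ⧸ p) (C ⧸ q) := (RingHom.kerLift (algebraMap R (C ⧸ q))).toAlgebra
  have : IsScalarTower R (R ⧸ p) (C ⧸ q) := IsScalarTower.of_algebraMap_eq fun _ => rfl
  have : Module.Finite R (C ⧸ q) :=
    Module.Finite.of_surjective (Ideal.Quotient.mkₐ R q).toLinearMap Ideal.Quotient.mk_surjective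
  have : Module.Finite (R ⧸ p) (C ⧸ q) := Module.Finite.of_restrictScalars_finite R _ _
  exact NormalLib.isN2_of_finite_injective (RingHom.kerLift_injective _) (hR.2 p)

theorem mem_associatedPrimes_factor {C : Type u} [CommRing C] [IsDomain C] [IsNoetherianRing C] (s : Multiset C) :
    ∀ {P : Ideal C}, P ∈ associatedPrimes C (C ⧸ Ideal.span {s.prod}) → s.prod ≠ 0 →
      ∃ z ∈ s, P ∈ associatedPrimes C (C ⧸ Ideal.span {z}) := by
  induction s using Multiset.induction with
  | empty =>
    intro P hP _
    exfalso
    refine hP.isPrime.ne_top ((Ideal.eq_top_iff_one _).2 ?_)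
    simpa using NormalLib.mem_associatedPrimes_quotient_of_le hP
  | cons a s ih =>
    intro P hP hne
    rw [Multiset.prod_cons] at hP hne
    obtain ⟨ha, hb⟩ := mul_ne_zero_iff.1 hne
    let f : (C ⧸ Ideal.span {s.prod}) →ₗ[C] (C ⧸ Ideal.span {a * s.prod}) :=
      Submodule.mapQ _ _ (LinearMap.mulLeft C a) fun x hx => by
        obtain ⟨w, rfl⟩ := Ideal.mem_span_singleton'.1 hx
        exact Ideal.mem_span_singleton'.2 ⟨w, by show w * (a * s.prod) = a * (w * s.prod); ring⟩
    let g : (C ⧸ Ideal.span {a * s.prod}) →ₗ[C] (C ⧸ Ideal.span {a}) :=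
      Submodule.factor (show Ideal.span {a * s.prod} ≤ Ideal.span {a} from
        Ideal.span_singleton_le_span_singleton.2 ⟨_, rfl⟩)
    have hf : Function.Injective f := by
      rw [injective_iff_map_eq_zero]
      intro w hw
      obtain ⟨w, rfl⟩ := Submodule.Quotient.mk_surjective _ w
      rw [show f (Submodule.Quotient.mk w) = Submodule.Quotient.mk (a * w) from rfl, Submodule.Quotient.mk_eq_zero,
        Ideal.mem_span_singleton, mul_dvd_mul_iff_left ha] at hw
      rwa [Submodule.Quotient.mk_eq_zero, Ideal.mem_span_singleton]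
    have hfg : Function.Exact f g := by
      intro w
      obtain ⟨w, rfl⟩ := Submodule.Quotient.mk_surjective _ w
      constructor
      · intro hw
        rw [show g (Submodule.Quotient.mk w) = Submodule.Quotient.mk w from rfl, Submodule.Quotient.mk_eq_zero,
          Ideal.mem_span_singleton] at hw
        obtain ⟨v, rfl⟩ := hw
        exact ⟨Submodule.Quotient.mk v, rfl⟩
      · rintro ⟨v, hv⟩
        obtain ⟨v, rfl⟩ := Submodule.Quotient.mk_surjective _ v
        rw [← hv]
        show (Submodule.Quotient.mk (a * v) : C ⧸ Ideal.span {a}) = 0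
        rw [Submodule.Quotient.mk_eq_zero]
        exact Ideal.mem_span_singleton.2 ⟨v, rfl⟩
    rcases associatedPrimes.subset_union_of_exact hf hfg hP with h | h
    · obtain ⟨z, hz, hPz⟩ := ih h hb
      exact ⟨z, Multiset.mem_cons_of_mem hz, hPz⟩
    · exact ⟨a, Multiset.mem_cons_self a s, h⟩

/-- Reducedness over the splitting extension. -/
theorem isReduced_tensor_of_split {R R' S C : Type u} [CommRing R] (hR : CAlg.IsNagata R) [CommRing R'] [IsDomain R']
    [IsNoetherianRing R'] [IsIntegrallyClosed R'] [Algebra R R'] [Module.Finite R R'] [CommRing S] [IsNoetherianRing S]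
    [Algebra R S] [CommRing C] [IsDomain C] [IsNoetherianRing C] [Algebra R' C] [Algebra S C] [Module.Finite S C]
    [Algebra R C] [IsScalarTower R R' C] [IsScalarTower R S C] (x₁ : C) (hC : IsBirationalMonogenic R' x₁)
    (cs : Multiset R') (y₀ : S) (hy : algebraMap S C y₀ = (cs.map fun c => x₁ - algebraMap R' C c).prod)
    (m : Ideal S) [m.IsMaximal] (hym : y₀ ∈ m) (B : Type u) [CommRing B] [Algebra S B] [Module.Flat S B]
    [IsNoetherianRing B] (hB : m.map (algebraMap S B) ≤ (⊥ : Ideal B).jacobson)
    (hsurj : ∀ b : B, ∃ s : S, b - algebraMap S B s ∈ m.map (algebraMap S B)) : IsReduced (C ⊗[S] B) := by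
  classical
  have := hR.1
  let y : C := algebraMap S C y₀
  have hPfin : ∀ c ∈ cs, ∀ P : Ideal C, x₁ - algebraMap R' C c ∈ P →
      ∀ (q : Ideal S) [q.IsPrime], RingHom.ker (algebraMap S (C ⧸ P)) ≤ q → CAlg.IsN2 (S ⧸ q) := by
    intro r _ P hzP q _ hle
    have hsur : Function.Surjective (algebraMap R' (C ⧸ P)) := fun w => by
      obtain ⟨w, rfl⟩ := Ideal.Quotient.mk_surjective w
      obtain ⟨e, he⟩ := (hC.sub r).exists_const w
      refine ⟨e, (Ideal.Quotient.eq.2 ?_).symm⟩
      obtain ⟨v, hv⟩ := he
      rw [hv]
      exact P.mul_mem_right _ hzP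
    have : Module.Finite R (C ⧸ P) :=
      Module.Finite.of_surjective (IsScalarTower.toAlgHom R R' (C ⧸ P)).toLinearMap hsur
    let ker := RingHom.ker (algebraMap S (C ⧸ P))
    let φ : (S ⧸ ker) →ₐ[R] C ⧸ P :=
      Ideal.Quotient.liftₐ ker (IsScalarTower.toAlgHom R S (C ⧸ P)) fun a ha => ha
    have hφ : Function.Injective φ := RingHom.kerLift_injective (algebraMap S (C ⧸ P))
    have : Module.Finite R (S ⧸ ker) := Module.Finite.of_injective φ.toLinearMap hφ
    have : Module.Finite R (S ⧸ q) := Module.Finite.of_surjective (Ideal.Quotient.factorₐ R hle).toLinearMap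
      (Ideal.Quotient.factor_surjective hle)
    exact NormalLib.isN2_of_ringEquiv (RingEquiv.quotientBot (S ⧸ q)) ((isNagata_of_finite (C := S ⧸ q) hR).2 ⊥)
  rcases eq_or_ne y 0 with hy0 | hy0
  · -- `x₁` is integral over the base
    refine NormalLib.isReduced_tensor_of_finite_domain B m hB hsurj C ?_
    obtain ⟨c, hc, hc0⟩ : ∃ c ∈ cs, x₁ - algebraMap R' C c = 0 := by
      have h0 : (cs.map fun c => x₁ - algebraMap R' C c).prod = 0 := hy ▸ hy0
      simpa using Multiset.prod_eq_zero_iff.1 h0
    intro q _ hle
    refine hPfin c hc ⊥ (by rw [hc0]; exact zero_mem _) q fun s hs => hle ?_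
    rw [RingHom.mem_ker] at hs ⊢
    rw [IsScalarTower.algebraMap_apply S C (C ⧸ (⊥ : Ideal C)), Ideal.Quotient.algebraMap_eq,
      Ideal.Quotient.eq_zero_iff_mem, Ideal.mem_bot] at hs
    exact hs
  have := NormalLib.isNoetherianRing_tensor (A := S) B C
  refine NormalLib.isReduced_of_hypersurface (C ⊗[S] B) y hy0 ?_ fun P hP _ => ?_
  · rw [← IsScalarTower.algebraMap_apply S C (C ⊗[S] B), Algebra.TensorProduct.algebraMap_apply,
      Algebra.algebraMap_eq_smul_one, TensorProduct.smul_tmul, ← Algebra.algebraMap_eq_smul_one]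
    exact NormalLib.mem_jacobson_tensor B (hB (Ideal.mem_map_of_mem _ hym))
  · obtain ⟨z, hz, hPz⟩ := mem_associatedPrimes_factor (cs.map fun c => x₁ - algebraMap R' C c)
      (by rw [← hy]; exact hP) (by rw [← hy]; exact hy0)
    obtain ⟨c, hc, rfl⟩ := Multiset.mem_map.1 hz
    have hz0 : x₁ - algebraMap R' C c ≠ 0 := fun h => hy0 (by
      show algebraMap S C y₀ = 0
      rw [hy]; exact Multiset.prod_eq_zero (h ▸ hz))
    refine ⟨(hC.sub c).isPrincipal hz0 P hPz, ?_⟩
    have : Module.Finite S (C ⧸ P) :=
      Module.Finite.of_surjective (Ideal.Quotient.mkₐ S P).toLinearMap Ideal.Quotient.mk_surjective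
    have := NormalLib.isReduced_tensor_of_finite_domain B m hB hsurj (C ⧸ P)
      (fun q _ hle => hPfin c hc P (NormalLib.mem_associatedPrimes_quotient_of_le hPz) q hle)
    exact NormalLib.isReduced_quotient_tensor B P

theorem completion_props_over {S : Type u} [CommRing S] (m : Ideal S) [m.IsMaximal] (A : Type u) [CommRing A] [Algebra S A]
    [IsLocalization.AtPrime A m] [IsLocalRing A] [IsNoetherianRing A] :
    Module.Flat S (AdicCompletion (maximalIdeal A) A) ∧
      m.map (algebraMap S (AdicCompletion (maximalIdeal A) A)) ≤ (⊥ : Ideal (AdicCompletion (maximalIdeal A) A)).jacobson ∧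
      ∀ b : AdicCompletion (maximalIdeal A) A, ∃ s : S, b - algebraMap S _ s ∈
        m.map (algebraMap S (AdicCompletion (maximalIdeal A) A)) := by
  obtain ⟨_, hff, -, hBA, hsurjA⟩ := NormalLib.completion_props A
  let B := AdicCompletion (maximalIdeal A) A
  have : IsScalarTower S A B := IsScalarTower.of_algebraMap_eq fun _ => rfl
  have : Module.Flat S A := IsLocalization.flat A m.primeCompl
  have : Module.Flat S B := Module.Flat.trans S A B
  refine ⟨this, ?_⟩
  have hmA : ∀ s ∈ m, algebraMap S A s ∈ maximalIdeal A := fun s hs =>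
    (IsLocalization.AtPrime.to_map_mem_maximal_iff A m s).2 hs
  have hB : m.map (algebraMap S B) ≤ (⊥ : Ideal B).jacobson :=
    Ideal.map_le_iff_le_comap.2 fun s hs => hBA (Ideal.mem_map_of_mem (algebraMap A B) (hmA s hs))
  have hmap : (maximalIdeal A).map (algebraMap A B) = m.map (algebraMap S B) := by
    refine (congrArg (Ideal.map (algebraMap A B)) (IsLocalization.AtPrime.map_eq_maximalIdeal m A).symm).trans ?_
    rw [Ideal.map_map]; rfl
  refine ⟨hB, ?_⟩
  · intro b
    obtain ⟨a, ha⟩ := hsurjA b
    obtain ⟨u, t, rfl⟩ := IsLocalization.exists_mk'_eq m.primeCompl a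
    obtain ⟨v, w, hw, hvw⟩ := Ideal.IsMaximal.exists_inv (‹m.IsMaximal›) t.2
    refine ⟨u * v, ?_⟩
    rw [← hmap]
    have h1 : b - algebraMap S B (u * v) = (b - algebraMap A B (IsLocalization.mk' A u t)) +
        algebraMap A B (IsLocalization.mk' A u t * algebraMap S A w) := by
      rw [IsScalarTower.algebraMap_apply S A B, sub_add, ← map_sub]
      congr 2
      rw [show algebraMap S A w = 1 - algebraMap S A v * algebraMap S A t by
          rw [← map_mul, ← map_one (algebraMap S A), ← hvw, map_add, add_sub_cancel_left],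
        map_mul, mul_sub, mul_one, mul_left_comm, IsLocalization.mk'_spec]
      ring
    rw [h1]
    exact add_mem ha (Ideal.mem_map_of_mem _ (Ideal.mul_mem_left _ _ (hmA w hw)))

variable {R S : Type u} [CommRing R] [IsDomain R] [IsIntegrallyClosed R] [CommRing S] [IsDomain S] [Algebra R S]

theorem isReduced_completion (hR : CAlg.IsNagata R) {x : S} (hx : IsBirationalMonogenic R x)
    (m : Ideal S) [m.IsMaximal] [(m.comap (algebraMap R S)).IsMaximal] (A : Type u) [CommRing A] [Algebra S A]
    [IsLocalization.AtPrime A m] [IsLocalRing A] [IsNoetherianRing A] :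
    IsReduced (AdicCompletion (maximalIdeal A) A) := by
  classical
  have := hR.1
  let p := m.comap (algebraMap R S)
  have hftS : Algebra.FiniteType R S := ⟨⟨{x}, by rw [Finset.coe_singleton]; exact hx.generates⟩⟩
  have : IsNoetherianRing S := Algebra.FiniteType.isNoetherianRing R S
  obtain ⟨g, hg, hgm⟩ : ∃ g : Polynomial R, g.Monic ∧ Polynomial.aeval x g ∈ m := by
    let _ : Field (R ⧸ p) := Ideal.Quotient.field p
    let _ : Field (S ⧸ m) := Ideal.Quotient.field m
    have : Algebra.FiniteType (R ⧸ p) (S ⧸ m) := by
      have : Algebra.FiniteType R (S ⧸ m) :=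
        Algebra.FiniteType.of_surjective (Ideal.Quotient.mkₐ R m) Ideal.Quotient.mk_surjective
      exact Algebra.FiniteType.of_restrictScalars_finiteType R (R ⧸ p) (S ⧸ m)
    have : Module.Finite (R ⧸ p) (S ⧸ m) := finite_of_finite_type_of_isJacobsonRing (R ⧸ p) (S ⧸ m)
    have : Module.Finite R (S ⧸ m) := Module.Finite.trans (R ⧸ p) (S ⧸ m)
    obtain ⟨g, hg, hg'⟩ := (Algebra.IsIntegral.of_finite R (S ⧸ m)).isIntegral (Ideal.Quotient.mk m x)
    refine ⟨g, hg, Ideal.Quotient.eq_zero_iff_mem.1 ?_⟩
    rw [← Ideal.Quotient.mkₐ_eq_mk R m, ← Polynomial.aeval_algHom_apply]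
    exact hg'
  let K := FractionRing S
  have hRK : Function.Injective (algebraMap R K) := by
    rw [IsScalarTower.algebraMap_eq R S K]; exact (IsFractionRing.injective S K).comp hx.injective
  have : FaithfulSMul R K := (faithfulSMul_iff_algebraMap_injective R K).2 hRK
  have : IsFractionRing R K := IsFractionRing.of_field R K fun z => by
    obtain ⟨u, v, hv, rfl⟩ := IsFractionRing.div_surjective (A := S) z
    obtain ⟨e, f, he, hef⟩ := hx.exists_mul u
    obtain ⟨e', f', he', hef'⟩ := hx.exists_mul v
    have hu : algebraMap R K e * algebraMap S K u = algebraMap R K f := by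
      rw [IsScalarTower.algebraMap_apply R S K, ← map_mul, hef, ← IsScalarTower.algebraMap_apply]
    have hv' : algebraMap R K e' * algebraMap S K v = algebraMap R K f' := by
      rw [IsScalarTower.algebraMap_apply R S K, ← map_mul, hef', ← IsScalarTower.algebraMap_apply]
    have h1 := (map_ne_zero_iff _ (IsFractionRing.injective S K)).2 (nonZeroDivisors.ne_zero hv)
    have h2 := (map_ne_zero_iff _ hRK).2 he
    have h3 := (map_ne_zero_iff _ hRK).2 he'
    refine ⟨f * e', e * f', ?_⟩
    rw [map_mul, map_mul, ← hu, ← hv', div_eq_div_iff h1 (mul_ne_zero h2 (mul_ne_zero h3 h1))]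
    ring
  let Ω := AlgebraicClosure K
  let roots := (g.map (algebraMap R Ω)).roots
  let K' := IntermediateField.adjoin K (roots.toFinset : Set Ω)
  have hroot : ∀ c ∈ roots, IsIntegral R c := fun c hc => by
    refine ⟨g, hg, ?_⟩
    have := (Polynomial.mem_roots'.1 hc).2
    rwa [Polynomial.IsRoot, Polynomial.eval_map] at this
  have : FiniteDimensional K K' := IntermediateField.finiteDimensional_adjoin fun c hc =>
    (hroot c (Multiset.mem_toFinset.1 hc)).tower_top
  have : IsScalarTower R K K' := inferInstance
  let R' := integralClosure R K'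
  have hN2 : CAlg.IsN2 R := by
    exact NormalLib.isN2_of_ringEquiv (RingEquiv.quotientBot R) (hR.2 ⊥)
  have : Module.Finite R R' := by
    let e := IsLocalization.algEquiv R⁰ (FractionRing R) K
    let _ : Algebra (FractionRing R) K' := ((algebraMap K K').comp e.toRingEquiv.toRingHom).toAlgebra
    have : IsScalarTower R (FractionRing R) K' := IsScalarTower.of_algebraMap_eq fun r => by
      show _ = algebraMap K K' (e (algebraMap R (FractionRing R) r))
      rw [e.commutes, ← IsScalarTower.algebraMap_apply]
    refine hN2 K' ?_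
    obtain ⟨s, hs⟩ := (inferInstance : Module.Finite K K').fg_top
    refine ⟨⟨s, eq_top_iff.2 fun y hyT => ?_⟩⟩
    clear hyT
    have hy : y ∈ Submodule.span K (s : Set K') := hs.symm ▸ Submodule.mem_top
    induction hy using Submodule.span_induction with
    | mem z hz => exact Submodule.subset_span hz
    | zero => exact zero_mem _
    | add a b _ _ ha hb => exact add_mem ha hb
    | smul k a _ ha =>
      have h1 : k • a = (e.symm k) • a := by
        rw [Algebra.smul_def, Algebra.smul_def]
        show _ = algebraMap K K' (e (e.symm k)) * a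
        rw [e.apply_symm_apply]
      rw [h1]
      exact Submodule.smul_mem _ _ ha
  have hR'N : CAlg.IsNagata R' := isNagata_of_finite hR
  have := hR'N.1
  have : IsIntegrallyClosed R' := integralClosure.isIntegrallyClosedOfFiniteExtension K
  let x' : K' := algebraMap K K' (algebraMap S K x)
  let C := Algebra.adjoin R' ({x'} : Set K')
  let ι : S →+* K' := (algebraMap K K').comp (algebraMap S K)
  have hιR : ∀ r : R, ι (algebraMap R S r) = algebraMap R K' r := fun r => by
    show algebraMap K K' (algebraMap S K (algebraMap R S r)) = _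
    rw [← IsScalarTower.algebraMap_apply R S K, ← IsScalarTower.algebraMap_apply R K K']
  have hιC : ∀ s, ι s ∈ C := fun s => by
    have hs : s ∈ Algebra.adjoin R ({x} : Set S) := hx.generates.symm ▸ Algebra.mem_top
    induction hs using Algebra.adjoin_induction with
    | mem w hw => obtain rfl := hw; exact Algebra.subset_adjoin rfl
    | algebraMap r => rw [hιR, IsScalarTower.algebraMap_apply R R' K']; exact C.algebraMap_mem _
    | add u v _ _ hu hv => rw [map_add]; exact C.add_mem hu hv
    | mul u v _ _ hu hv => rw [map_mul]; exact C.mul_mem hu hv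
  let _ : Algebra S C := (ι.codRestrict C.toSubring hιC).toAlgebra
  have hSC : Function.Injective (algebraMap S C) := fun a b h =>
    IsFractionRing.injective S K ((algebraMap K K').injective (congrArg Subtype.val h))
  have : IsScalarTower R S C := IsScalarTower.of_algebraMap_eq fun r => Subtype.ext (hιR r).symm
  let x₁ : C := ⟨x', Algebra.subset_adjoin rfl⟩
  have hx₁ : algebraMap S C x = x₁ := rfl
  have : FaithfulSMul R' C := (faithfulSMul_iff_algebraMap_injective R' C).2 fun a b h =>
    Subtype.ext (congrArg (fun z : C => (z : K')) h)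
  have hC : IsBirationalMonogenic R' x₁ := by
    refine ⟨FaithfulSMul.algebraMap_injective R' C, ?_, ?_⟩
    · refine Subalgebra.map_injective (f := C.val) Subtype.val_injective ?_
      rw [AlgHom.map_adjoin, Algebra.map_top, Subalgebra.range_val, Set.image_singleton]
      rfl
    · obtain ⟨b, a, hb, hba⟩ := hx.fraction
      refine ⟨algebraMap R R' b, algebraMap R R' a, fun h => hb (hRK ((algebraMap K K').injective ?_)), Subtype.ext ?_⟩
      · rw [map_zero, map_zero, ← IsScalarTower.algebraMap_apply R K K']
        exact congrArg Subtype.val h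
      · show algebraMap R K' b * ι x = algebraMap R K' a
        rw [← hιR, ← hιR, ← map_mul, hba]
  have : IsNoetherianRing C := by
    have : Algebra.FiniteType R' C := ⟨⟨{x₁}, by rw [Finset.coe_singleton]; exact hC.generates⟩⟩
    exact Algebra.FiniteType.isNoetherianRing R' C
  have : Module.Finite S C := by
    obtain ⟨G, hG⟩ := (inferInstance : Module.Finite R R').fg_top
    have htop : Algebra.adjoin S ((G.image (algebraMap R' C) : Finset C) : Set C) = ⊤ := by
      refine eq_top_iff.2 fun z hzT => ?_
      clear hzT
      have hz : z ∈ Algebra.adjoin R' ({x₁} : Set C) := hC.generates.symm ▸ Algebra.mem_top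
      have key : ∀ r : R', algebraMap R' C r ∈ Algebra.adjoin S ((G.image (algebraMap R' C) : Finset C) : Set C) := by
        intro r
        have hr : r ∈ Submodule.span R (G : Set R') := hG.symm ▸ Submodule.mem_top
        induction hr using Submodule.span_induction with
        | mem y hy => exact Algebra.subset_adjoin (Finset.mem_coe.2 (Finset.mem_image_of_mem _ hy))
        | zero => rw [map_zero]; exact Subalgebra.zero_mem _
        | add a b _ _ ha hb => rw [map_add]; exact Subalgebra.add_mem _ ha hb
        | smul c a _ ha =>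
          rw [Algebra.smul_def, map_mul]
          refine Subalgebra.mul_mem _ ?_ ha
          rw [show algebraMap R' C (algebraMap R R' c) = algebraMap S C (algebraMap R S c) from
            Subtype.ext (hιR c).symm]
          exact Subalgebra.algebraMap_mem _ _
      induction hz using Algebra.adjoin_induction with
      | mem w hw => obtain rfl := hw; rw [← hx₁]; exact Subalgebra.algebraMap_mem _ _
      | algebraMap r => exact key r
      | add u v _ _ hu hv => exact Subalgebra.add_mem _ hu hv
      | mul u v _ _ hu hv => exact Subalgebra.mul_mem _ hu hv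
    refine ⟨?_⟩
    rw [← Algebra.top_toSubmodule, ← htop]
    refine fg_adjoin_of_finite (Finset.finite_toSet _) fun z hz => ?_
    obtain ⟨r, -, rfl⟩ := Finset.mem_image.1 (Finset.mem_coe.1 hz)
    exact ((Algebra.IsIntegral.of_finite R R').isIntegral r).map (IsScalarTower.toAlgHom R R' C) |>.tower_top
  -- the splitting
  have hmemK' : ∀ c : roots.toFinset, (c : Ω) ∈ K' := fun c => IntermediateField.subset_adjoin K _ c.2
  have : IsScalarTower R K' Ω := IsScalarTower.of_algebraMap_eq fun r => by
    rw [IsScalarTower.algebraMap_apply R K K', IsScalarTower.algebraMap_apply R K Ω]; rfl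
  let cR : roots.toFinset → R' := fun c => ⟨⟨c, hmemK' c⟩,
    (isIntegral_algHom_iff (IsScalarTower.toAlgHom R K' Ω) Subtype.val_injective).1
      (hroot c (Multiset.mem_toFinset.1 c.2))⟩
  let ev : C →+* Ω := K'.val.toRingHom.comp C.val.toRingHom
  have hev : Function.Injective ev := Subtype.val_injective.comp Subtype.val_injective
  let F : Multiset C := roots.attach.map fun c => x₁ - algebraMap R' C (cR ⟨c.1, Multiset.mem_toFinset.2 c.2⟩)
  let y : C := algebraMap S C (Polynomial.aeval x g)
  have hy : y = F.prod := by
    refine hev ?_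
    rw [map_multiset_prod, Multiset.map_map]
    have hsplit : g.map (algebraMap R Ω) = (roots.map fun c => Polynomial.X - Polynomial.C c).prod :=
      (IsAlgClosed.splits _).eq_prod_roots_of_monic (hg.map _)
    have h1 : ev y = (g.map (algebraMap R Ω)).eval (x' : Ω) := by
      rw [Polynomial.eval_map, ← Polynomial.aeval_def]
      let evS : S →ₐ[R] Ω := { ev.comp (algebraMap S C) with
        commutes' := fun r => by
          show ((ι (algebraMap R S r) : K') : Ω) = _
          rw [hιR]; rfl }
      exact (Polynomial.aeval_algHom_apply evS x g).symm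
    rw [h1, hsplit, Polynomial.eval_multiset_prod, Multiset.map_map]
    conv_lhs => rw [← Multiset.attach_map_val roots]
    rw [Multiset.map_map]
    refine congrArg Multiset.prod (Multiset.map_congr rfl fun c _ => ?_)
    simp only [Function.comp_apply, Polynomial.eval_sub, Polynomial.eval_X, Polynomial.eval_C, map_sub]
    rfl
  obtain ⟨hflat, hB, hsurj⟩ := completion_props_over m A
  obtain ⟨_, -, -, -, -⟩ := NormalLib.completion_props A
  let B := AdicCompletion (maximalIdeal A) A
  have : IsScalarTower R R' C := IsScalarTower.of_algebraMap_eq fun r => Subtype.ext rfl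
  have := isReduced_tensor_of_split (R := R) hR x₁ hC
    (roots.attach.map fun c => cR ⟨c.1, Multiset.mem_toFinset.2 c.2⟩) (Polynomial.aeval x g)
    (hy.trans (by rw [Multiset.map_map]; rfl)) m hgm B hB hsurj
  have := NormalLib.isReduced_tensor_of_injective B (Algebra.ofId S C) hSC
  exact isReduced_of_injective (Algebra.TensorProduct.lid S B).symm (Algebra.TensorProduct.lid S B).symm.injective

end NagataFG
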