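import Groth.Agent.NormalLib.TensorReduced

/-! Associated primes of a principal ideal in a birational monogenic extension of a normal domain. -/

set_option autoImplicit false

universe u

open IsLocalRing
open scoped nonZeroDivisors

namespace NagataFG

variable {R C : Type u} [CommRing R] [IsDomain R] [CommRing C] [IsDomain C] [Algebra R C]

/-- The extension `C` of `R` is generated by `z`, an element of the fraction field. -/
structure IsBirationalMonogenic (R : Type u) {C : Type u} [CommRing R] [CommRing C] [Algebra R C] (z : C) : Prop where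
  injective : Function.Injective (algebraMap R C)
  generates : Algebra.adjoin R ({z} : Set C) = ⊤
  fraction : ∃ b a : R, b ≠ 0 ∧ algebraMap R C b * z = algebraMap R C a

theorem IsBirationalMonogenic.sub {z : C} (h : IsBirationalMonogenic R z) (c : R) :
    IsBirationalMonogenic R (z - algebraMap R C c) := by
  obtain ⟨b, a, hb, hba⟩ := h.fraction
  refine ⟨h.injective, eq_top_iff.2 (h.generates.ge.trans (Algebra.adjoin_le ?_)),
    b, a - b * c, hb, by rw [mul_sub, hba, map_sub, map_mul]⟩
  intro w hw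
  rw [Set.mem_singleton_iff.1 hw]
  have := add_mem (Algebra.subset_adjoin (R := R) (Set.mem_singleton (z - algebraMap R C c)))
    (Subalgebra.algebraMap_mem (Algebra.adjoin R {z - algebraMap R C c}) c)
  simpa using this

theorem IsBirationalMonogenic.induction {z : C} (h : IsBirationalMonogenic R z) (S : Subalgebra R C) (hz : z ∈ S)
    (y : C) : y ∈ S := by
  have : Algebra.adjoin R ({z} : Set C) ≤ S := Algebra.adjoin_le (Set.singleton_subset_iff.2 hz)
  exact this (h.generates.symm ▸ Algebra.mem_top)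

theorem IsBirationalMonogenic.exists_mul {z : C} (h : IsBirationalMonogenic R z) (y : C) :
    ∃ e f : R, e ≠ 0 ∧ algebraMap R C e * y = algebraMap R C f := by
  obtain ⟨b, a, hb, hba⟩ := h.fraction
  have hy : y ∈ Algebra.adjoin R ({z} : Set C) := h.generates.symm ▸ Algebra.mem_top
  induction hy using Algebra.adjoin_induction with
  | mem w hw => obtain rfl := hw; exact ⟨b, a, hb, hba⟩
  | algebraMap r => exact ⟨1, r, one_ne_zero, by simp⟩
  | add u v _ _ hu hv =>
    obtain ⟨e, f, he, hef⟩ := hu
    obtain ⟨e', f', he', hef'⟩ := hv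
    refine ⟨e * e', f * e' + f' * e, mul_ne_zero he he', ?_⟩
    rw [map_mul, map_add, map_mul, map_mul, ← hef, ← hef']; ring
  | mul u v _ _ hu hv =>
    obtain ⟨e, f, he, hef⟩ := hu
    obtain ⟨e', f', he', hef'⟩ := hv
    refine ⟨e * e', f * f', mul_ne_zero he he', ?_⟩
    rw [map_mul, map_mul, ← hef, ← hef']; ring

theorem IsBirationalMonogenic.exists_const {z : C} (h : IsBirationalMonogenic R z) (y : C) :
    ∃ r : R, z ∣ y - algebraMap R C r := by
  have hy : y ∈ Algebra.adjoin R ({z} : Set C) := h.generates.symm ▸ Algebra.mem_top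
  induction hy using Algebra.adjoin_induction with
  | mem w hw => obtain rfl := hw; exact ⟨0, by simp⟩
  | algebraMap r => exact ⟨r, by simp⟩
  | add u v _ _ hu hv =>
    obtain ⟨e, he⟩ := hu
    obtain ⟨e', he'⟩ := hv
    exact ⟨e + e', by rw [map_add, add_sub_add_comm]; exact dvd_add he he'⟩
  | mul u v _ _ hu hv =>
    obtain ⟨e, he⟩ := hu
    obtain ⟨e', he'⟩ := hv
    refine ⟨e * e', ?_⟩
    rw [map_mul, show u * v - algebraMap R C e * algebraMap R C e' =
      (u - algebraMap R C e) * v + algebraMap R C e * (v - algebraMap R C e') by ring]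
    exact dvd_add (he.mul_right _) (he'.mul_left _)

variable [IsIntegrallyClosed R]

/-- An element of `R` divisible by `z` in `C` has its quotient in `R`. -/
theorem IsBirationalMonogenic.exists_of_dvd {z : C} (h : IsBirationalMonogenic R z) {r : R} {y : C}
    (hy : algebraMap R C r = z * y) : ∃ s : R, algebraMap R C s = y := by
  obtain ⟨p, hp⟩ : y ∈ (Polynomial.aeval z : Polynomial R →ₐ[R] C).range := by
    rw [← Algebra.adjoin_singleton_eq_range_aeval, h.generates]; exact Algebra.mem_top
  have hint : IsIntegral R y := by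
    let n := p.natDegree
    refine ⟨Polynomial.X ^ (n + 1) - ∑ i ∈ Finset.range (n + 1), Polynomial.C (p.coeff i * r ^ i) * Polynomial.X ^ (n - i),
      Polynomial.monic_X_pow_sub ((Polynomial.degree_sum_le _ _).trans_lt ?_), ?_⟩
    · refine (Finset.sup_lt_iff (by exact WithBot.bot_lt_coe _)).2 fun i _ => ?_
      refine (Polynomial.degree_C_mul_X_pow_le _ _).trans_lt ?_
      exact_mod_cast Nat.lt_succ_of_le (Nat.sub_le n i)
    · show Polynomial.eval₂ _ y _ = 0
      rw [← Polynomial.aeval_def, map_sub, map_sum, map_pow, Polynomial.aeval_X, sub_eq_zero]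
      have h1 : y ^ (n + 1) = ∑ i ∈ Finset.range (n + 1), algebraMap R C (p.coeff i) * z ^ i * y ^ n := by
        rw [← Finset.sum_mul, pow_succ', ← hp]
        congr 1
        show Polynomial.aeval z p = _
        rw [Polynomial.aeval_eq_sum_range]
        exact Finset.sum_congr rfl fun i _ => Algebra.smul_def _ _
      rw [h1]
      refine Finset.sum_congr rfl fun i hi => ?_
      rw [map_mul, Polynomial.aeval_C, map_pow, Polynomial.aeval_X, map_mul, map_pow, hy, mul_pow]
      have hin : i ≤ n := Nat.lt_succ_iff.1 (Finset.mem_range.1 hi)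
      calc algebraMap R C (p.coeff i) * z ^ i * y ^ n
          = algebraMap R C (p.coeff i) * z ^ i * (y ^ i * y ^ (n - i)) := by rw [← pow_add, Nat.add_sub_cancel' hin]
        _ = algebraMap R C (p.coeff i) * (z ^ i * y ^ i) * y ^ (n - i) := by ring
  obtain ⟨e, f, he, hef⟩ := h.exists_mul y
  let K := FractionRing R
  let L := FractionRing C
  have hRL : Function.Injective (algebraMap R L) := by
    rw [IsScalarTower.algebraMap_eq R C L]; exact (IsFractionRing.injective C L).comp h.injective
  let φ : K →ₐ[R] L := IsFractionRing.liftAlgHom (g := Algebra.ofId R L) hRL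
  have he' : algebraMap R L e ≠ 0 := (map_ne_zero_iff _ hRL).2 he
  have hφ : φ (algebraMap R K f / algebraMap R K e) = algebraMap C L y := by
    rw [map_div₀, AlgHom.commutes, AlgHom.commutes, div_eq_iff he', IsScalarTower.algebraMap_apply R C L,
      IsScalarTower.algebraMap_apply R C L, ← map_mul, ← hef, mul_comm]
  obtain ⟨s, hs⟩ := (isIntegrallyClosed_iff K).1 ‹_› ((isIntegral_algHom_iff φ φ.toRingHom.injective).1
    (hφ ▸ hint.map (IsScalarTower.toAlgHom R C L)))
  refine ⟨s, IsFractionRing.injective C L ?_⟩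
  rw [← hφ, ← hs, AlgHom.commutes, ← IsScalarTower.algebraMap_apply]

/-- The localization at an associated prime of `(z)` has principal maximal ideal. -/
theorem IsBirationalMonogenic.isPrincipal [IsNoetherianRing R] [IsNoetherianRing C] {z : C} (h : IsBirationalMonogenic R z)
    (hz : z ≠ 0) (P : Ideal C) [P.IsPrime] (hP : P ∈ associatedPrimes C (C ⧸ Ideal.span {z})) :
    (maximalIdeal (Localization.AtPrime P)).IsPrincipal := by
  classical
  obtain ⟨-, w, hw⟩ := isAssociatedPrime_iff.1 (AssociatedPrimes.mem_iff.1 hP)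
  obtain ⟨q, rfl⟩ := Ideal.Quotient.mk_surjective w
  obtain ⟨r, hr⟩ := h.exists_const q
  have hmem : ∀ y, y ∈ P ↔ z ∣ y * q := fun y => by
    rw [hw, Submodule.mem_colon_singleton, Submodule.mem_bot, Algebra.smul_def,
      Ideal.Quotient.algebraMap_eq, ← map_mul, Ideal.Quotient.eq_zero_iff_mem, Ideal.mem_span_singleton]
  obtain ⟨b, a, hb, hba⟩ := h.fraction
  have ha : a ≠ 0 := fun h0 => by
    rw [h0, map_zero, mul_eq_zero] at hba
    exact hba.elim ((map_ne_zero_iff _ h.injective).2 hb) hz
  let P₀ := P.comap (algebraMap R C)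
  have hP₀ : ∀ t, t ∈ P₀ ↔ a ∣ t * (r * b) := fun t => by
    have e : z ∣ algebraMap R C t * q ↔ z ∣ algebraMap R C (t * r) := by
      rw [map_mul, show algebraMap R C t * q = algebraMap R C t * (q - algebraMap R C r) +
        algebraMap R C t * algebraMap R C r by ring, dvd_add_right (hr.mul_left _)]
    rw [Ideal.mem_comap, hmem, e]
    constructor
    · rintro ⟨y, hy⟩
      obtain ⟨s, rfl⟩ := h.exists_of_dvd hy
      refine ⟨s, h.injective ?_⟩
      rw [← mul_assoc, map_mul, hy, map_mul, ← hba]; ring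
    · rintro ⟨s, hs⟩
      refine ⟨algebraMap R C s, mul_left_cancel₀ ((map_ne_zero_iff _ h.injective).2 hb) ?_⟩
      rw [← mul_assoc _ z, hba, ← map_mul, ← map_mul, ← hs]; ring_nf
  have hass : P₀ ∈ associatedPrimes R (R ⧸ Ideal.span {a}) := by
    refine AssociatedPrimes.mem_iff.2 (isAssociatedPrime_iff.2 ⟨inferInstance, Ideal.Quotient.mk _ (r * b),
      Ideal.ext fun t => ?_⟩)
    rw [Submodule.mem_colon_singleton, Submodule.mem_bot, Algebra.smul_def,
      Ideal.Quotient.algebraMap_eq, ← map_mul, Ideal.Quotient.eq_zero_iff_mem, Ideal.mem_span_singleton, hP₀]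
  have hprinc := NormalLib.maximalIdeal_isPrincipal_of_mem_associatedPrimes ha hass
  obtain ⟨π, n, T, t₁, u₁, hπ, hT, hTd, hu₁, hta, ht₁, hπP⟩ :=
    NormalLib.exists_uniformizer a ha P₀ (NormalLib.mem_associatedPrimes_quotient_of_le hass) hprinc
  obtain ⟨t, c, ht, hc⟩ : ∃ t c : R, t ∉ P₀ ∧ algebraMap R C t * z = algebraMap R C c := by
    by_cases hbP : b ∈ P₀
    swap
    · exact ⟨b, a, hbP, hba⟩
    obtain ⟨π', k, T', t₂, u₂, hπ', hT', hTd', hu₂, htb, ht₂, hπP'⟩ :=
      NormalLib.exists_uniformizer b hb P₀ hbP hprinc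
    -- the two uniformizers differ by units at `P₀`
    obtain ⟨d, hd⟩ := hTd' π hπP
    have hdP : d ∉ P₀ := fun hdP => by
      obtain ⟨d', hd'⟩ := hTd d hdP
      obtain ⟨e', he'⟩ := hTd π' hπP'
      have h1 : T * T' * T * π = π * (π * (d' * e')) := by
        calc T * T' * T * π = T * T * (T' * π) := by ring
          _ = T * T * (π' * d) := by rw [hd]
          _ = (T * π') * (T * d) := by ring
          _ = π * e' * (π * d') := by rw [he', hd']
          _ = _ := by ring
      rw [mul_comm (T * T' * T)] at h1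
      have h2 := mul_left_cancel₀ hπ h1
      exact (fun hm => ((Ideal.IsPrime.mem_or_mem inferInstance hm).elim
        (fun hm => (Ideal.IsPrime.mem_or_mem inferInstance hm).elim hT hT') hT))
        (h2 ▸ Ideal.mul_mem_right _ _ hπP)
    have hmain : algebraMap R C (t₁ * u₂ * T' ^ n) * algebraMap R C π' ^ k * z =
        algebraMap R C (t₂ * u₁ * d ^ n) * algebraMap R C π' ^ n := by
      rw [← map_pow, ← map_pow, ← map_mul, ← map_mul, show t₁ * u₂ * T' ^ n * π' ^ k = t₁ * T' ^ n * (t₂ * b) by
        rw [htb]; ring, show t₁ * T' ^ n * (t₂ * b) = t₁ * T' ^ n * t₂ * b by ring, map_mul, mul_assoc _ _ z, hba,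
        ← map_mul, show t₁ * T' ^ n * t₂ * a = t₂ * T' ^ n * (t₁ * a) by ring, hta,
        show t₂ * T' ^ n * (u₁ * π ^ n) = t₂ * u₁ * (T' * π) ^ n by rw [mul_pow]; ring, hd, mul_pow]
      ring_nf
    have hπ0 : algebraMap R C π' ≠ 0 := (map_ne_zero_iff _ h.injective).2 hπ'
    have hnot : ∀ {u v : R}, u ∉ P₀ → v ∉ P₀ → u * v ∉ P₀ := fun hu hv hm =>
      (Ideal.IsPrime.mem_or_mem inferInstance hm).elim hu hv
    rcases le_or_gt k n with hkn | hkn
    · refine ⟨t₁ * u₂ * T' ^ n, t₂ * u₁ * d ^ n * π' ^ (n - k), hnot (hnot ht₁ hu₂) (fun hm =>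
        hT' (Ideal.IsPrime.mem_of_pow_mem inferInstance n hm)), mul_left_cancel₀ (pow_ne_zero k hπ0) ?_⟩
      rw [map_mul _ _ (π' ^ (n - k)), map_pow _ π', ← mul_assoc, mul_comm (algebraMap R C π' ^ k), hmain,
        mul_left_comm, ← pow_add, Nat.add_sub_cancel' hkn]
    · exfalso
      have h1 : algebraMap R C (t₁ * u₂ * T' ^ n * π' ^ (k - n)) * z = algebraMap R C (t₂ * u₁ * d ^ n) := by
        refine mul_right_cancel₀ (pow_ne_zero n hπ0) ?_
        rw [← hmain, map_mul _ _ (π' ^ (k - n)), map_pow _ π']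
        conv_rhs => rw [show k = k - n + n by omega, pow_add]
        ring
      refine hnot (hnot ht₂ hu₁) (fun hm => hdP (Ideal.IsPrime.mem_of_pow_mem inferInstance n hm)) ?_
      rw [Ideal.mem_comap, ← h1]
      refine P.mul_mem_right _ (Ideal.mem_comap.1 (Ideal.mul_mem_left _ _ ?_) )
      exact Ideal.pow_mem_of_mem _ hπP' _ (by omega)
  let CP := Localization.AtPrime P
  refine ⟨algebraMap C CP (algebraMap R C π), le_antisymm ?_ ?_⟩
  · intro v hv
    obtain ⟨y, s, rfl⟩ := IsLocalization.exists_mk'_eq P.primeCompl v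
    have hy : y ∈ P := (IsLocalization.AtPrime.mk'_mem_maximal_iff CP P y s).1 hv
    obtain ⟨m, f, hf⟩ : ∃ m : ℕ, ∃ f : R, algebraMap R C (t ^ m) * y = algebraMap R C f := by
      clear hv hy
      have hy : y ∈ Algebra.adjoin R ({z} : Set C) := h.generates.symm ▸ Algebra.mem_top
      induction hy using Algebra.adjoin_induction with
      | mem w hw => obtain rfl := hw; exact ⟨1, c, by rw [pow_one, hc]⟩
      | algebraMap e => exact ⟨0, e, by simp⟩
      | add u v _ _ hu hv =>
        obtain ⟨m, f, hmf⟩ := hu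
        obtain ⟨m', f', hmf'⟩ := hv
        refine ⟨m + m', t ^ m' * f + t ^ m * f', ?_⟩
        rw [map_add (algebraMap R C), map_mul, map_mul, ← hmf, ← hmf', pow_add, map_mul]; ring
      | mul u v _ _ hu hv =>
        obtain ⟨m, f, hmf⟩ := hu
        obtain ⟨m', f', hmf'⟩ := hv
        refine ⟨m + m', f * f', ?_⟩
        rw [map_mul _ f f', ← hmf, ← hmf', pow_add, map_mul]; ring
    obtain ⟨g, hg⟩ := hTd f (by rw [Ideal.mem_comap, ← hf]; exact P.mul_mem_left _ hy)
    rw [Submodule.mem_span_singleton]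
    have hs' : algebraMap R C (T * t ^ m) * (s : C) ∈ P.primeCompl := fun hm =>
      ((Ideal.IsPrime.mem_or_mem inferInstance hm).elim (fun hm => (Ideal.IsPrime.mem_or_mem inferInstance
        (show T * t ^ m ∈ P₀ from hm)).elim hT (fun hm => ht (Ideal.IsPrime.mem_of_pow_mem inferInstance m hm))) s.2)
    refine ⟨IsLocalization.mk' CP (algebraMap R C g) ⟨_, hs'⟩, ?_⟩
    rw [smul_eq_mul, mul_comm, IsLocalization.mul_mk'_eq_mk'_of_mul, IsLocalization.mk'_eq_iff_eq]
    congr 1
    show (s : C) * (algebraMap R C π * algebraMap R C g) = algebraMap R C (T * t ^ m) * (s : C) * y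
    rw [← map_mul, ← hg, map_mul, map_mul, ← hf]; ring
  · rw [Submodule.span_singleton_le_iff_mem]
    exact (IsLocalization.AtPrime.to_map_mem_maximal_iff CP P _).2 hπP

end NagataFG
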